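import Cfsg.Agent.Brauer.CoveringPIndex
import Cfsg.Agent.Block.FirstMain
import Cfsg.Agent.LAE62.SylowBasics

/-!
# Defect groups of blocks covering an invariant block (Fong)
-/

set_option linter.style.haveILetI false

namespace Cfsg.Agent.Brauer

open Cfsg MonoidAlgebra
open Cfsg.Agent.Block
open scoped ComplexConjugate

universe u

variable {G : Type u} [Group G] [Fintype G] {p : ℕ} {M : Ideal AlgInt} [M.IsPrime]

open scoped Classical in
/-- A union of blocks has as coefficients the sums of those of its blocks. -/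
theorem blockCoeff_eq_sum_blocks (T : Set (IrrCharacter G))
    (hT : ∀ η η' : IrrCharacter G, η ∈ T → SameBlock M (η : G → ℂ) (η' : G → ℂ) → η' ∈ T)
    (g : G) :
    blockCoeff T g = ∑ B ∈ (blocks M G).filter (fun B => B ⊆ T), blockCoeff B g := by
  simp only [blockCoeff_eq_sum, ← Finset.mul_sum]
  congr 1
  rw [← Finset.sum_fiberwise_of_maps_to (g := fun η : IrrCharacter G => blockOf M (η : G → ℂ))
    (t := (blocks M G).filter (fun B => B ⊆ T)) fun η hη => ?_]
  · refine Finset.sum_congr rfl fun B hB => Finset.sum_congr ?_ fun _ _ => rfl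
    obtain ⟨hB1, hB2⟩ := Finset.mem_filter.1 hB
    ext η
    simp only [Finset.mem_filter, Finset.mem_univ, true_and]
    exact ⟨fun h => h.2 ▸ mem_blockOf_self η,
      fun h => ⟨hB2 h, (pBlock_eq (mem_blocks_iff.1 hB1) h).symm⟩⟩
  · rw [Finset.mem_filter, mem_blocks_iff]
    exact ⟨isPBlock_blockOf η, fun η' hη' => hT η η' (by simpa using hη) hη'⟩

variable [Fact p.Prime]
variable (N : Subgroup G) [hN : N.Normal]

open scoped Classical in
/-- Covering blocks of maximal defect share their defect class with the invariant block below. -/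
theorem exists_fong_class (hM : IsPModular p M) [Fintype N] {b : Set (IrrCharacter N)}
    (hb : IsPBlock M b) (hinv : ∀ (x : G), ∀ θ ∈ b, conjIrr N x θ ∈ b)
    {B : Set (IrrCharacter G)} (hB : IsPBlock M B)
    (hcov : ∃ χ ∈ B, ∃ θ ∈ b, classInner (fun n : N => (χ : G → ℂ) n) (θ : N → ℂ) ≠ 0)
    (hmax : ∀ B' : Set (IrrCharacter G), IsPBlock M B' →
      (∃ χ ∈ B', ∃ θ ∈ b, classInner (fun n : N => (χ : G → ℂ) n) (θ : N → ℂ) ≠ 0) →
      blockDefect p B' ≤ blockDefect p B)
    {P : Subgroup G} (hP : IsDefectGroup p M B P) :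
    ∃ g : N, IsClassDefectGroup p (g : G) P ∧ ¬ MemLocalIdeal M (blockCoeff b g) ∧
      ∃ θ ∈ b, ∃ χ ∈ B, classInner (fun n : N => (χ : G → ℂ) n) (θ : N → ℂ) ≠ 0 ∧
        ¬ MemLocalIdeal M (centralChar (χ : G → ℂ) (g : G)) := by
  obtain ⟨χ₀, hχ₀, θ₀, hθ₀, h₀⟩ := hcov
  have hinv' : ∀ (x : G) (θ : IrrCharacter N), conjIrr N x θ ∈ b → θ ∈ b := fun x θ h => by
    have := hinv x⁻¹ _ h
    rwa [← conjIrr_mul, mul_inv_cancel, conjIrr_one] at this
  let z : MonoidAlgebra (localRing M) G := ofFn fun g =>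
    if hg : g ∈ N then ⟨blockCoeff b ⟨g, hg⟩, blockCoeff_memLocalRing hb _⟩ else 0
  have hS : conjOrbit N b = b := Set.ext fun η => ⟨fun ⟨x, hx⟩ => hinv' x η hx,
    fun h => ⟨1, by rwa [conjIrr_one]⟩⟩
  have hz : IsCentralElt z := by
    intro g x
    simp only [z, coeff_ofFn]
    by_cases hg : g ∈ N
    · rw [dif_pos hg, dif_pos (hN.conj_mem g hg x)]
      apply Subtype.ext
      change blockCoeff b _ = blockCoeff b _
      conv_rhs => rw [← hS]
      conv_lhs => rw [← hS]
      exact blockCoeff_conjOrbit_conj N x ⟨g, hg⟩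
    · rw [dif_neg hg, dif_neg]
      intro h
      exact hg (by simpa [mul_assoc] using hN.conj_mem _ h x⁻¹)
  have hsupp : ∀ g ∉ N, z.coeff g = 0 := fun g hg => by simp only [z, coeff_ofFn, dif_neg hg]
  have hzb : toC M (restr N z) = blockIdem b := groupAlgebra_ext fun n => by
    rw [coeff_mapR, coeff_restr, coeff_blockIdem]
    simp only [z, coeff_ofFn, dif_pos n.2]
    rfl
  -- the covering characters
  set T : Set (IrrCharacter G) := {χ | ∃ θ ∈ b,
    classInner (fun n : N => (χ : G → ℂ) n) (θ : N → ℂ) ≠ 0} with hT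
  have homega : ∀ χ : IrrCharacter G,
      omega (χ : G → ℂ) (toC M z) = if χ ∈ T then 1 else 0 := by
    intro χ
    by_cases hχ : χ ∈ T
    · obtain ⟨θ, hθ, h⟩ := hχ
      rw [omega_eq_omega_restr_of_constituent N χ.2 θ.2 h hz hsupp, hzb, omega_blockIdem,
        if_pos hθ, if_pos ⟨θ, hθ, h⟩]
    · obtain ⟨η, k, hk, hη⟩ := Char.exists_irr_constituent
        (CharInd.isCharacter_res N (Char.isCharacter_of_irr χ.2))
        (fun h0 => Char.irr_one_ne_zero χ.2 (congrFun h0 1))
      have h : classInner (fun n : N => (χ : G → ℂ) n) (η : N → ℂ) ≠ 0 := by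
        rw [hη]; exact Nat.cast_ne_zero.2 hk.ne'
      rw [omega_eq_omega_restr_of_constituent N χ.2 η.2 h hz hsupp, hzb, omega_blockIdem,
        if_neg (fun hm => hχ ⟨η, hm, h⟩), if_neg hχ]
  have hclosed : ∀ η η' : IrrCharacter G, η ∈ T → SameBlock M (η : G → ℂ) (η' : G → ℂ) → η' ∈ T := by
    intro η η' hη hs
    by_contra hn
    have h := omega_toC_sub_mem_of_sameBlock η.2 η'.2 hs hz
    rw [homega, homega, if_pos hη, if_neg hn, sub_zero] at h
    exact not_memLocalIdeal_one h
  have hzT : toC M z = blockIdem T := central_ext (hz.mapR _) (blockIdem_isCentralElt T)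
    fun χ => by rw [homega, omega_blockIdem]
  -- a class seen by the idempotent and by `B`
  have hlam : lam M (χ₀ : G → ℂ) (toF M z) ≠ 0 := by
    rw [lam_toF χ₀.2 hz, homega, if_pos ⟨θ₀, hθ₀, h₀⟩, redC_one]
    exact one_ne_zero
  obtain ⟨x, hx, hxlam⟩ := exists_coeff_lam_classSum_ne_zero χ₀.2 hlam
  have hxN : x ∈ N := by
    by_contra h
    rw [coeff_mapR, hsupp x h] at hx
    simp at hx
  have hxcoeff : ¬ MemLocalIdeal M (blockCoeff b ⟨x, hxN⟩) := by
    intro h
    apply hx
    rw [coeff_mapR]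
    simp only [z, coeff_ofFn, dif_pos hxN]
    exact red_eq_zero_iff.2 h
  have hxchar : ¬ MemLocalIdeal M (centralChar (χ₀ : G → ℂ) x) :=
    (lam_classSum_ne_zero_iff χ₀.2 x).1 hxlam
  obtain ⟨E, hE⟩ := exists_isClassDefectGroup (p := p) x
  have h1 := subConj_of_centralChar_unit hM hB hP hχ₀ hE hxchar
  -- a covering block with that class in the support of its idempotent
  have hTx : blockCoeff T x = blockCoeff b ⟨x, hxN⟩ := by
    rw [← coeff_blockIdem, ← hzT, coeff_mapR]
    simp only [z, coeff_ofFn, dif_pos hxN]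
    rfl
  obtain ⟨B', hB', hB'x⟩ : ∃ B' ∈ (blocks M G).filter (fun B => B ⊆ T),
      ¬ MemLocalIdeal M (blockCoeff B' x) := by
    by_contra hall
    push Not at hall
    apply hxcoeff
    rw [← hTx, blockCoeff_eq_sum_blocks T hclosed]
    exact memLocalIdeal_sum _ _ hall
  obtain ⟨hB'1, hB'2⟩ := Finset.mem_filter.1 hB'
  have hB'b := mem_blocks_iff.1 hB'1
  obtain ⟨χ', hχ'⟩ := pBlock_nonempty hB'b
  obtain ⟨θ', hθ', h'⟩ := hB'2 hχ'
  obtain ⟨D', hD'⟩ := exists_isDefectGroup (p := p) (M := M) hB'b
  have h2 := (subConj_of_blockCoeff_unit hM hB'b hD' hE hB'x).card_le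
  have h3 := hmax B' hB'b ⟨χ', hχ', θ', hθ', h'⟩
  have hcard : Nat.card E ≤ Nat.card P := by
    rw [card_isDefectGroup hM hB hP]
    rw [card_isDefectGroup hM hB'b hD'] at h2
    exact h2.trans (Nat.pow_le_pow_right hM.1.pos h3)
  obtain ⟨w, hw⟩ := h1
  have heq : P.map (MulAut.conj w).toMonoidHom = E := Subgroup.eq_of_le_of_card_ge hw (by
    rwa [Subgroup.card_map_of_injective (f := (MulAut.conj w).toMonoidHom) (MulAut.conj w).injective])
  have hc := hE.conj w⁻¹
  rw [← heq, map_conj_map_conj, inv_mul_cancel, map_conj_one, inv_inv] at hc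
  have hgN : w⁻¹ * x * w ∈ N := by simpa using hN.conj_mem x hxN w⁻¹
  refine ⟨⟨w⁻¹ * x * w, hgN⟩, hc, ?_, θ₀, hθ₀, χ₀, hχ₀, h₀, ?_⟩
  · have h := blockCoeff_conjOrbit_conj N (b := b) w⁻¹ (⟨x, hxN⟩ : N)
    rw [hS] at h
    intro hm
    apply hxcoeff
    rw [← h]
    have e : (⟨w⁻¹ * x * w⁻¹⁻¹, hN.conj_mem x hxN w⁻¹⟩ : N) = ⟨w⁻¹ * x * w, hgN⟩ :=
      Subtype.ext (congrArg (fun t => w⁻¹ * x * t) (inv_inv w))
    rw [e]
    exact hm
  · change ¬ MemLocalIdeal M (centralChar (χ₀ : G → ℂ) (w⁻¹ * x * w))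
    rwa [show w⁻¹ * x * w = w⁻¹ * x * w⁻¹⁻¹ by rw [inv_inv],
      centralChar_conj (Char.irr_isClassFunction χ₀.2)]

open scoped Classical in
/-- Fong's theorem on covering blocks of maximal defect. -/
theorem fong (hM : IsPModular p M) [Fintype N] {b : Set (IrrCharacter N)} (hb : IsPBlock M b)
    (hinv : ∀ (x : G), ∀ θ ∈ b, conjIrr N x θ ∈ b)
    {B : Set (IrrCharacter G)} (hB : IsPBlock M B)
    (hcov : ∃ χ ∈ B, ∃ θ ∈ b, classInner (fun n : N => (χ : G → ℂ) n) (θ : N → ℂ) ≠ 0)
    (hmax : ∀ B' : Set (IrrCharacter G), IsPBlock M B' →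
      (∃ χ ∈ B', ∃ θ ∈ b, classInner (fun n : N => (χ : G → ℂ) n) (θ : N → ℂ) ≠ 0) →
      blockDefect p B' ≤ blockDefect p B)
    {P : Subgroup G} (hP : IsDefectGroup p M B P) :
    ¬ p ∣ (P ⊔ N).index ∧ IsDefectGroup p M b ((P ⊓ N).subgroupOf N) ∧
      blockDefect p B = blockDefect p b + N.index.factorization p := by
  obtain ⟨g, hgP, hgb, θ, hθ, χ, hχ, h0, hgχ⟩ := exists_fong_class N hM hb hinv hB hcov hmax hP
  have hp := hM.1
  haveI : Finite (ConjClasses N) := Finite.of_surjective _ ConjClasses.mk_surjective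
  haveI := Fintype.ofFinite (ConjClasses N)
  set S : Finset (ConjClasses N) :=
    Finset.univ.filter fun c => IsConj (g : G) (c.out : G) with hS
  -- the class of `g` splits into classes of `N` on which `b` takes one value
  have hsize : ∀ c ∈ S,
      (Subgroup.centralizer ({c.out} : Set N)).index = (Subgroup.centralizer ({g} : Set N)).index ∧
      MemLocalIdeal M (centralChar (θ : N → ℂ) c.out - centralChar (θ : N → ℂ) g) := by
    intro c hc
    obtain ⟨x, hx⟩ := isConj_iff.1 (Finset.mem_filter.1 hc).2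
    have e : c.out = ⟨x * g * x⁻¹, hN.conj_mem g g.2 x⟩ := Subtype.ext hx.symm
    have e' : (MulAut.conjNormal x : MulAut N) g = c.out :=
      Subtype.ext ((MulAut.conjNormal_apply x g).trans hx)
    refine ⟨by rw [← e', index_centralizer_equiv], ?_⟩
    rw [e, ← centralChar_conjChar]
    exact pBlock_sameBlock hb (hinv x θ hθ) hθ g
  have hinduced : inducedCentralChar N (θ : N → ℂ) (g : G)
      = ∑ c ∈ S, centralChar (θ : N → ℂ) c.out := by
    have e : restr N (classSum ℂ (g : G)) = ∑ c ∈ S, classSum ℂ c.out := by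
      refine groupAlgebra_ext fun n => ?_
      rw [coeff_restr, coeff_classSum, coeff_sum, Finset.sum_apply']
      simp only [coeff_classSum]
      have hn : IsConj (ConjClasses.mk n).out n :=
        ConjClasses.mk_eq_mk_iff_isConj.1 (Quotient.out_eq _)
      by_cases h : IsConj (g : G) (n : G)
      · rw [if_pos h, Finset.sum_eq_single (ConjClasses.mk n), if_pos hn]
        · intro c _ hc
          rw [if_neg]
          intro hcn
          exact hc (by rw [← ConjClasses.mk_eq_mk_iff_isConj.2 hcn]; exact (Quotient.out_eq c).symm)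
        · intro hnS
          exact absurd (show ConjClasses.mk n ∈ S from Finset.mem_filter.2 ⟨Finset.mem_univ _,
            h.trans (MonoidHom.map_isConj N.subtype hn.symm)⟩) hnS
      · rw [if_neg h, Finset.sum_eq_zero]
        intro c hc
        rw [if_neg]
        intro hcn
        exact h ((Finset.mem_filter.1 hc).2.trans (MonoidHom.map_isConj N.subtype hcn))
    rw [← Block.inducedCentralChar_eq_omega, e, map_sum]
    exact Finset.sum_congr rfl fun c _ => centralChar_eq _ (Char.irr_isClassFunction θ.2) _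
  have hcount : S.card * (Subgroup.centralizer ({g} : Set N)).index
      = (Subgroup.centralizer ({(g : G)} : Set G)).index := by
    rw [← Char.card_isConj_eq_index (g : G), ← Nat.nsmul_eq_mul, ← Finset.sum_const,
      Finset.sum_congr rfl fun c hc => (hsize c hc).1.symm.trans
        (Char.card_isConj_eq_index c.out).symm]
    rw [← Finset.card_sigma]
    refine Finset.card_bij (fun x _ => (x.2 : G)) (fun x hx => ?_) (fun x hx y hy h => ?_)
      (fun y hy => ?_)
    · obtain ⟨h1, h2⟩ := Finset.mem_sigma.1 hx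
      simp only [Finset.mem_filter, Finset.mem_univ, true_and] at h2 ⊢
      exact (Finset.mem_filter.1 h1).2.trans (MonoidHom.map_isConj N.subtype h2)
    · obtain ⟨-, h2⟩ := Finset.mem_sigma.1 hx
      obtain ⟨-, h2'⟩ := Finset.mem_sigma.1 hy
      simp only [Finset.mem_filter, Finset.mem_univ, true_and] at h2 h2'
      obtain ⟨c, n⟩ := x
      obtain ⟨c', n'⟩ := y
      obtain rfl : n = n' := Subtype.ext h
      obtain rfl : c = c' := by
        have a1 := ConjClasses.mk_eq_mk_iff_isConj.2 (h2.trans h2'.symm)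
        rwa [show ConjClasses.mk c.out = c from Quotient.out_eq _,
          show ConjClasses.mk c'.out = c' from Quotient.out_eq _] at a1
      rfl
    · simp only [Finset.mem_filter, Finset.mem_univ, true_and] at hy
      obtain ⟨x, rfl⟩ := isConj_iff.1 hy
      have hm : x * g * x⁻¹ ∈ N := hN.conj_mem g g.2 x
      have hc : IsConj (ConjClasses.mk (⟨_, hm⟩ : N)).out (⟨_, hm⟩ : N) :=
        ConjClasses.mk_eq_mk_iff_isConj.1 (Quotient.out_eq _)
      refine ⟨⟨ConjClasses.mk ⟨_, hm⟩, ⟨_, hm⟩⟩, Finset.mem_sigma.2 ⟨?_, ?_⟩, rfl⟩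
      · exact Finset.mem_filter.2 ⟨Finset.mem_univ _,
          (isConj_iff.2 ⟨x, rfl⟩).trans (MonoidHom.map_isConj N.subtype hc.symm)⟩
      · simp only [Finset.mem_filter, Finset.mem_univ, true_and]
        exact hc
  have hval : MemLocalIdeal M
      (centralChar (χ : G → ℂ) (g : G) - (S.card : ℂ) * centralChar (θ : N → ℂ) g) := by
    rw [centralChar_eq_inducedCentralChar N χ.2 θ.2 h0 g, hinduced, ← nsmul_eq_mul,
      ← Finset.sum_const, ← Finset.sum_sub_distrib]
    exact memLocalIdeal_sum _ _ fun c hc => (hsize c hc).2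
  have hθg : ¬ MemLocalIdeal M (centralChar (θ : N → ℂ) g) := fun h => hgχ (by
    simpa using memLocalIdeal_add hval (memLocalIdeal_mul_left (memLocalRing_natCast S.card) h))
  have hScard : ¬ p ∣ S.card := fun h => hgχ (by
    simpa using memLocalIdeal_add hval
      (memLocalIdeal_mul_right ((memLocalIdeal_natCast_iff hM _).2 h)
        (centralChar_memLocalRing θ.2 g)))
  have hclass : IsDefectClass M b g :=
    ⟨blockCoeff_memLocalRing hb g, hgb, fun η hη h => hθg (by
      simpa using memLocalIdeal_add h (pBlock_sameBlock hb hθ hη g))⟩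
  -- the intersection with `N` is a defect group of the class in `N`
  obtain ⟨E, hE⟩ := exists_isClassDefectGroup (p := p) g
  have hPN : (P ⊓ N).subgroupOf N ≤ Subgroup.centralizer ({g} : Set N) := by
    intro n hn
    rw [Subgroup.mem_centralizer_singleton_iff]
    exact Subtype.ext (Subgroup.mem_centralizer_singleton_iff.1 (hgP.le_centralizer hn.1))
  have hv : (Nat.card G).factorization p + (Nat.card E).factorization p
      = (Nat.card N).factorization p + (Nat.card P).factorization p := by
    have a1 := factorization_card_eq_of_classDefect hgP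
    have a2 := factorization_card_eq_of_classDefect hE
    have a3 := congrArg (fun n => Nat.factorization n p) hcount
    simp only [Nat.factorization_mul (fun h => hScard (h ▸ dvd_zero p) : S.card ≠ 0)
      Subgroup.index_ne_zero_of_finite, Finsupp.add_apply,
      Nat.factorization_eq_zero_of_not_dvd hScard, zero_add] at a3
    omega
  have hcardE : Nat.card E = Nat.card (P ⊓ N : Subgroup G) := by
    refine le_antisymm ?_ ?_
    · set C := Subgroup.centralizer ({(g : G)} : Set G) with hC
      obtain ⟨S₀, hS₀⟩ : ∃ S : Sylow p C, (S : Subgroup C).map C.subtype = P := hgP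
      have hSN := LAE62.not_dvd_relIndex_sylow_inf_normal S₀ (N.subgroupOf C)
      have hmapE : (E.map N.subtype).subgroupOf C ≤ N.subgroupOf C := fun v hv => by
        obtain ⟨w, -, hw⟩ := (Subgroup.mem_subgroupOf.1 hv)
        rw [Subgroup.mem_subgroupOf, ← hw]
        exact w.2
      have hEC : E.map N.subtype ≤ C := by
        rintro _ ⟨w, hw, rfl⟩
        rw [Subgroup.mem_centralizer_singleton_iff]
        exact congrArg Subtype.val (Subgroup.mem_centralizer_singleton_iff.1 (hE.le_centralizer hw))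
      have hEp : IsPGroup p ((E.map N.subtype).subgroupOf C) :=
        (hE.isPGroup.map N.subtype).comap_subtype
      obtain ⟨m, -, hm⟩ := LAE62.exists_conj_le_of_relIndex
        (S₀.isPGroup'.to_le inf_le_left) inf_le_right hSN hEp hmapE
      have h1 : Nat.card ((E.map N.subtype).subgroupOf C)
          ≤ Nat.card ((S₀ : Subgroup C) ⊓ N.subgroupOf C : Subgroup C) := by
        rw [← Subgroup.card_map_of_injective (f := (MulAut.conj m).toMonoidHom)
          (MulAut.conj m).injective]
        refine Subgroup.card_le_of_le ?_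
        rintro _ ⟨v, hv, rfl⟩
        exact hm v hv
      rw [Nat.card_congr (Subgroup.subgroupOfEquivOfLe hEC).toEquiv,
        Subgroup.card_map_of_injective N.subtype_injective] at h1
      refine h1.trans ?_
      rw [← Subgroup.card_map_of_injective (f := C.subtype) C.subtype_injective]
      refine Subgroup.card_le_of_le ?_
      rintro _ ⟨v, ⟨hv1, hv2⟩, rfl⟩
      exact ⟨hS₀ ▸ ⟨v, hv1, rfl⟩, hv2⟩
    · rw [← Nat.card_congr (Subgroup.subgroupOfEquivOfLe (inf_le_right : P ⊓ N ≤ N)).toEquiv]
      obtain ⟨F, hF, hle⟩ := exists_isClassDefectGroup_ge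
        ((hgP.isPGroup.to_le inf_le_left).comap_subtype (K := N)) hPN
      refine (Subgroup.card_le_of_le hle).trans ?_
      rw [hF.card_eq, hE.card_eq]
  have hdef : IsDefectGroup p M b ((P ⊓ N).subgroupOf N) := by
    refine isDefectGroup_iff.2 ⟨g, hclass, isClassDefectGroup_of_card hPN ?_⟩
    rw [Nat.card_congr (Subgroup.subgroupOfEquivOfLe (inf_le_right : P ⊓ N ≤ N)).toEquiv, ← hcardE,
      hE.card_eq]
  refine ⟨?_, hdef, ?_⟩
  · -- index of `P ⊔ N`
    intro hdvd
    have h1 : (P ⊓ N).relIndex P = N.relIndex (P ⊔ N) := by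
      rw [Subgroup.inf_relIndex_left, Subgroup.relIndex_sup_right]
    have h2 : N.relIndex (P ⊔ N) * (P ⊔ N).index = N.index :=
      Subgroup.relIndex_mul_index le_sup_right
    have h3 : Nat.card (P ⊓ N : Subgroup G) * (P ⊓ N).relIndex P = Nat.card P :=
      (congrArg (· * (P ⊓ N).relIndex P) (Nat.card_congr
        (Subgroup.subgroupOfEquivOfLe (inf_le_left : P ⊓ N ≤ P)).toEquiv).symm).trans
        (Subgroup.card_mul_index ((P ⊓ N).subgroupOf P))
    have h4 := Subgroup.card_mul_index N
    have hne : N.relIndex (P ⊔ N) ≠ 0 := Subgroup.index_ne_zero_of_finite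
    have f2 := congrArg (fun n => Nat.factorization n p) h2
    have f3 := congrArg (fun n => Nat.factorization n p) h3
    have f4 := congrArg (fun n => Nat.factorization n p) h4
    rw [h1] at f3
    simp only [Nat.factorization_mul hne Subgroup.index_ne_zero_of_finite,
      Nat.factorization_mul Nat.card_pos.ne' hne,
      Nat.factorization_mul Nat.card_pos.ne' Subgroup.index_ne_zero_of_finite,
      Finsupp.add_apply] at f2 f3 f4
    have hpos := hp.factorization_pos_of_dvd Subgroup.index_ne_zero_of_finite hdvd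
    rw [hcardE] at hv
    omega
  · have h4 := congrArg (fun n => Nat.factorization n p) (Subgroup.card_mul_index N)
    simp only [Nat.factorization_mul Nat.card_pos.ne' Subgroup.index_ne_zero_of_finite,
      Finsupp.add_apply] at h4
    have e1 := card_isDefectGroup hM hB hP
    have e2 := card_isDefectGroup hM hb hdef
    rw [Nat.card_congr (Subgroup.subgroupOfEquivOfLe (inf_le_right : P ⊓ N ≤ N)).toEquiv,
      ← hcardE] at e2
    rw [e1, e2, hp.factorization_pow, hp.factorization_pow, Finsupp.single_eq_same,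
      Finsupp.single_eq_same] at hv
    omega

end Cfsg.Agent.Brauer
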