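import Cfsg.Agent.Brauer.Covering
import Cfsg.Agent.Block.FirstMain
import Cfsg.Agent.Char.Kernel

/-!
# Blocks along isomorphisms; transitivity of block induction
-/

set_option linter.style.haveILetI false

namespace Cfsg.Agent.Brauer

open Cfsg MonoidAlgebra
open Cfsg.Agent.Block

universe u

variable {K K' : Type*} [Group K] [Group K'] {M : Ideal AlgInt}

theorem centralChar_comp_equiv (e : K ≃* K') (f : K' → ℂ) (k : K) :
    centralChar (f ∘ e) k = centralChar f (e k) := by
  rw [centralChar, centralChar, Function.comp_apply, Function.comp_apply, map_one,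
    index_centralizer_equiv]

theorem sameBlock_comp_equiv_iff (e : K ≃* K') {f g : K' → ℂ} :
    SameBlock M (f ∘ e) (g ∘ e) ↔ SameBlock M f g := by
  refine ⟨fun h k => ?_, fun h k => ?_⟩
  · have := h (e.symm k)
    rwa [centralChar_comp_equiv, centralChar_comp_equiv, e.apply_symm_apply] at this
  · rw [centralChar_comp_equiv, centralChar_comp_equiv]
    exact h _

/-- Irreducible characters along an isomorphism. -/
def irrComp [Finite K] [Finite K'] (e : K ≃* K') : IrrCharacter K' ≃ IrrCharacter K where
  toFun f := ⟨(f : K' → ℂ) ∘ e, Char.isIrrCharacter_comp_mulEquiv f.2 e⟩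
  invFun f := ⟨(f : K → ℂ) ∘ e.symm, Char.isIrrCharacter_comp_mulEquiv f.2 e.symm⟩
  left_inv f := Subtype.ext (funext fun x => by simp)
  right_inv f := Subtype.ext (funext fun x => by simp)

theorem coe_irrComp [Finite K] [Finite K'] (e : K ≃* K') (f : IrrCharacter K') :
    (irrComp e f : K → ℂ) = (f : K' → ℂ) ∘ e := rfl

theorem isPBlock_image_irrComp [Finite K] [Finite K'] (e : K ≃* K') {b : Set (IrrCharacter K')}
    (hb : IsPBlock M b) : IsPBlock M (irrComp e '' b) := by
  obtain ⟨χ, rfl⟩ := hb
  refine ⟨irrComp e χ, ?_⟩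
  rw [Equiv.image_eq_preimage_symm]
  ext ψ
  change SameBlock M _ _ ↔ SameBlock M _ _
  rw [coe_irrComp, ← sameBlock_comp_equiv_iff e]
  exact Iff.of_eq (congrArg _ (funext fun x => by simp [irrComp]))

variable {G : Type u} [Group G] [Fintype G]

open scoped Classical in
/-- Transitivity of block induction. -/
theorem isInducedBlock_trans [M.IsPrime] {L N : Subgroup G} (hLN : L ≤ N)
    {b : Set (IrrCharacter L)} {B : Set (IrrCharacter G)} (hb : IsInducedBlock M L b B)
    {β : Set (IrrCharacter N)}
    (hβ : IsInducedBlock M (L.subgroupOf N) (irrComp (Subgroup.subgroupOfEquivOfLe hLN) '' b) β) :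
    IsInducedBlock M N β B := by
  haveI := Fintype.ofFinite L
  haveI := Fintype.ofFinite N
  haveI := Fintype.ofFinite (L.subgroupOf N)
  refine ⟨hβ.2.1, hb.2.1, fun η hη χ hχ g => ?_⟩
  obtain ⟨ξ, hξ⟩ := pBlock_nonempty hb.1
  have h1 := omega_restr_sub_mem_of_induced (L.subgroupOf N) hβ (Set.mem_image_of_mem _ hξ) hη
    ((classSum_isCentralElt (R := localRing M) g).restr N)
  have h2 := hb.2.2 ξ hξ χ hχ g
  rw [Brauer.inducedCentralChar_eq_omega (M := M)] at h2 ⊢
  have e : omega (irrComp (Subgroup.subgroupOfEquivOfLe hLN) ξ : L.subgroupOf N → ℂ)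
      (toC M (restr (L.subgroupOf N) (restr N (classSum (localRing M) g))))
      = omega (ξ : L → ℂ) (toC M (restr L (classSum (localRing M) g))) := by
    rw [omega_eq_sum, omega_eq_sum, coe_irrComp, Function.comp_apply, map_one]
    congr 1
    refine Fintype.sum_equiv (Subgroup.subgroupOfEquivOfLe hLN).toEquiv _ _ fun x => ?_
    simp only [mapR_restr, coeff_restr, Function.comp_apply, MulEquiv.coe_toEquiv]
    rfl
  rw [e] at h1
  simpa using memLocalIdeal_sub h2 h1

end Cfsg.Agent.Brauer
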