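import Cfsg.Agent.Brauer.ProjLattice
import Cfsg.Agent.Brauer.WeakOrth
import Cfsg.Agent.BlkChar.BlockAlgebra
import Cfsg.Agent.BlkChar.LocalSymm
import Cfsg.Agent.BrauerPairs.RankOne
import Cfsg.Agent.BlockVal.SquareSum

/-!
# Blocks of regular rank one with at most four characters

There is a single class of primitive idempotents, so the block algebra is a matrix algebra over a
commutative algebra of dimension the number of characters; hence that number is the order of a
defect group.
-/

set_option autoImplicit false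
set_option linter.style.haveILetI false
set_option maxHeartbeats 1000000

namespace Cfsg.Agent.Brauer.ProjVec

open Cfsg Cfsg.Agent.Block Cfsg.Agent.BlkChar.BlockAlg
open MonoidAlgebra (single coeff_add coeff_smul coeff_zero coeff_single coeff_sum single_mul_single)
open scoped ComplexConjugate Classical

attribute [local instance] BlkChar.BlockAlg.conjClassesFintype

universe u

variable {G : Type u} [Group G] [Fintype G] {p : ℕ} {M : Ideal AlgInt} [M.IsPrime]
  {B : Set (IrrCharacter G)}

/-- The values of the characters at an idempotent only involve the regular elements. -/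
theorem card_mul_ev_eq (hM : IsPModular p M) {e : MonoidAlgebra (localRing M) G}
    (he : IsIdempotentElem e) {χ : G → ℂ} (hχ : IsClassFunction G χ) :
    (Nat.card G : ℂ) * ev χ e =
      ∑ x : G with ¬ p ∣ orderOf x, (∑ b : G, (e.coeff (b * x * b⁻¹) : ℂ)) * χ x := by
  haveI : Fact p.Prime := ⟨hM.1⟩
  obtain ⟨ω, hωp, hω1, hπω⟩ := exists_omega hM
  have hev : ev χ e = ∑ x : G, (e.coeff x : ℂ) * χ x := by
    rw [ev_apply, charLin_eq_sum]
    exact Finset.sum_congr rfl fun x _ => by rw [coeff_mapR]; rfl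
  have hconj : ∀ b : G, ∑ x : G, (e.coeff (b * x * b⁻¹) : ℂ) * χ x = ev χ e := by
    intro b
    rw [hev]
    refine Fintype.sum_equiv (MulAut.conj b).toEquiv _ _ fun x => ?_
    show _ = (e.coeff (b * x * b⁻¹) : ℂ) * χ (b * x * b⁻¹)
    rw [hχ x b]
  have hsum : (Nat.card G : ℂ) * ev χ e =
      ∑ x : G, (∑ b : G, (e.coeff (b * x * b⁻¹) : ℂ)) * χ x := by
    simp only [Finset.sum_mul]
    rw [Finset.sum_comm, Finset.sum_congr rfl fun b _ => hconj b, Finset.sum_const,
      Finset.card_univ, nsmul_eq_mul, Nat.card_eq_fintype_card]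
  rw [hsum]
  symm
  refine Finset.sum_filter_of_ne fun x _ hne hx => hne ?_
  have hf : conv (fun g => e.coeff g) (fun g => e.coeff g) = fun g => e.coeff g := by
    funext z
    conv_rhs => rw [← he.eq, coeff_mul_sum' e e z]
    rfl
  have h := conjSum_eq_zero_of_singular (red M) ω hωp hω1 hπω (fun g => e.coeff g) hf x 1 hx
    (by rw [orderOf_one]; exact hM.1.not_dvd_one) (fun z => by simp)
  have h' : ∑ b : G, (e.coeff (b * x * b⁻¹) : ℂ) = 0 := by
    have := congrArg Subtype.val h
    simpa using this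
  rw [h', zero_mul]

/-- In rank one there is one class of primitive idempotents. -/
theorem eq_one_of_blockRank_eq_one (hM : IsPModular p M) (hB : IsPBlock M B)
    (hl : blockRank p B = 1) {r : ℕ} {d : Fin r → IrrCharacter G → ℕ}
    {e : Fin r → MonoidAlgebra (localRing M) G} (he : ∀ j, IsIdempotentElem (e j))
    (hev : ∀ j (χ : IrrCharacter G), ev (χ : G → ℂ) (e j) = d j χ)
    (hout : ∀ j, ∀ χ ∉ B, d j χ = 0)
    (hind : ∀ n : Fin r → ℤ, (∀ χ, ∑ j, n j * (d j χ : ℤ) = 0) → n = 0)
    (hgen : ∀ f, IsIdempotentElem f → idemS M B * f = f → ∃ c : Fin r → ℕ,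
      ∀ χ : IrrCharacter G, ev (χ : G → ℂ) f = ∑ j, (c j : ℂ) * d j χ) : r = 1 := by
  haveI : Fact p.Prime := ⟨hM.1⟩
  have h1 : 1 ≤ r := hl ▸ blockRank_le hM hB hgen
  by_contra hne
  obtain ⟨χ₀, hχ₀⟩ := pBlock_nonempty hB
  have hG : (Nat.card G : ℂ) ≠ 0 := Nat.cast_ne_zero.2 Nat.card_pos.ne'
  have hprop : ∀ j, ∀ χ ∈ B, (d j χ : ℂ) * (χ₀ : G → ℂ) 1 = (χ : G → ℂ) 1 * d j χ₀ := by
    intro j χ hχ
    apply mul_left_cancel₀ hG
    rw [← hev, ← hev, ← mul_assoc, ← mul_assoc, mul_comm (Nat.card G : ℂ) ((χ : G → ℂ) 1),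
      mul_assoc ((χ : G → ℂ) 1), card_mul_ev_eq hM (he j) (Char.irr_isClassFunction χ.2),
      card_mul_ev_eq hM (he j) (Char.irr_isClassFunction χ₀.2), Finset.sum_mul, Finset.mul_sum]
    refine Finset.sum_congr rfl fun x hx => ?_
    rw [mul_assoc, BrauerPairs.reg_proportional hl hχ₀ hχ (Finset.mem_filter.1 hx).2]
    ring
  set i0 : Fin r := ⟨0, by omega⟩
  set i1 : Fin r := ⟨1, by omega⟩
  have hi : i0 ≠ i1 := by simp [i0, i1]
  let n : Fin r → ℤ := Pi.single i0 (d i1 χ₀ : ℤ) - Pi.single i1 (d i0 χ₀ : ℤ)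
  have hn : ∀ χ, ∑ j, n j * (d j χ : ℤ) = 0 := by
    intro χ
    have hs : ∑ j, n j * (d j χ : ℤ) = (d i1 χ₀ : ℤ) * d i0 χ - (d i0 χ₀ : ℤ) * d i1 χ := by
      simp [n, sub_mul, Finset.sum_sub_distrib, Pi.single_apply]
    rw [hs]
    by_cases hχ : χ ∈ B
    · have h : ((d i1 χ₀ : ℂ) * d i0 χ - (d i0 χ₀ : ℂ) * d i1 χ) * (χ₀ : G → ℂ) 1 = 0 := by
        rw [sub_mul, mul_assoc, mul_assoc, hprop _ χ hχ, hprop _ χ hχ]; ring
      have h' := (mul_eq_zero.1 h).resolve_right (Char.irr_one_ne_zero χ₀.2)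
      exact_mod_cast h'
    · simp [hout _ χ hχ]
  have h0 : (d i1 χ₀ : ℤ) = 0 := by
    have := congrFun (hind n hn) i0
    simpa [n, Pi.single_eq_of_ne hi] using this
  have hz : ∀ χ, ∑ j, (Pi.single i1 1 : Fin r → ℤ) j * (d j χ : ℤ) = 0 := by
    intro χ
    simp only [Pi.single_apply, ite_mul, one_mul, zero_mul, Finset.sum_ite_eq', Finset.mem_univ,
      if_true]
    by_cases hχ : χ ∈ B
    · have h := hprop i1 χ hχ
      rw [show (d i1 χ₀ : ℂ) = 0 by exact_mod_cast h0, mul_zero] at h
      exact_mod_cast (mul_eq_zero.1 h).resolve_right (Char.irr_one_ne_zero χ₀.2)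
    · simp [hout _ χ hχ]
  simpa using congrFun (hind _ hz) i1

theorem card_mul_coeff_one (e : MonoidAlgebra (localRing M) G) :
    (Nat.card G : ℂ) * (e.coeff 1 : ℂ) =
      ∑ χ : IrrCharacter G, ev (χ : G → ℂ) e * conj ((χ : G → ℂ) 1) := by
  rw [sum_class_coeff_eq]
  have hc : Subgroup.centralizer ({1} : Set G) = ⊤ := eq_top_iff.mpr fun x _ => by
    simp [Subgroup.mem_centralizer_singleton_iff]
  rw [hc, Subgroup.card_top]
  congr 1
  rw [Finset.sum_eq_single 1]
  · intro b hb hb1
    exact absurd (isConj_one_right.1 (Finset.mem_filter.1 hb).2) hb1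
  · exact fun h => absurd (Finset.mem_filter.2 ⟨Finset.mem_univ _, IsConj.refl 1⟩) h

/-- An element with vanishing class sums is a combination of commutators. -/
theorem mem_commSpan_of_classProj_eq_zero {k : Type*} [Field k] (a : MonoidAlgebra k G)
    (ha : classProj a = 0) : a ∈ BlkChar.LocalTrace.commSpan k (MonoidAlgebra k G) := by
  have hrep : a = ∑ g : G, a.coeff g • (single g 1 - single (Quotient.out (ConjClasses.mk g)) 1) := by
    have h1 : ∑ g : G, a.coeff g • single (Quotient.out (ConjClasses.mk g)) (1 : k) = 0 := by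
      rw [← Finset.sum_fiberwise (Finset.univ : Finset G) ConjClasses.mk]
      refine Finset.sum_eq_zero fun c _ => ?_
      rw [Finset.sum_congr rfl (g := fun g => a.coeff g • single (Quotient.out c) (1 : k))
        (fun g hg => by rw [(Finset.mem_filter.1 hg).2]), ← Finset.sum_smul, Finset.sum_filter]
      have h0 : classProj a c = 0 := congrFun ha c
      rw [classProj] at h0
      rw [show (∑ g : G, if ConjClasses.mk g = c then a.coeff g else 0) = 0 by
        refine Eq.trans ?_ h0; exact Finset.sum_congr rfl fun g _ => by split_ifs <;> rfl, zero_smul]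
    simp only [smul_sub, Finset.sum_sub_distrib, h1, sub_zero]
    refine groupAlgebra_ext fun x => ?_
    simp [coeff_sum, Finsupp.finsetSum_apply, coeff_single, Finsupp.single_apply]
  rw [hrep]
  refine Submodule.sum_mem _ fun g _ => Submodule.smul_mem _ _ ?_
  obtain ⟨t, ht⟩ := isConj_iff.1 (ConjClasses.mk_eq_mk_iff_isConj.1
    (Quotient.out_eq (ConjClasses.mk g) : ConjClasses.mk _ = ConjClasses.mk g))
  have h := BlkChar.LocalTrace.comm_mem (F := k) (single t (1 : k))
    (single (Quotient.out (ConjClasses.mk g) * t⁻¹) 1)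
  rwa [single_mul_single, single_mul_single, one_mul, ← mul_assoc, ht, inv_mul_cancel_right] at h

/-- A block of rank one with at most four members has that many elements in a defect group. -/
theorem pow_defect_eq_card (hM : IsPModular p M) (hB : IsPBlock M B) (hl : blockRank p B = 1)
    (hk4 : Nat.card B ≤ 4) (hd0 : blockDefect p B ≠ 0) :
    p ^ blockDefect p B = Nat.card B ∧ (p = 2 ∨ p = 3) := by
  haveI : Fact p.Prime := ⟨hM.1⟩
  haveI : CharP (ResF M) p := charP_resF hM
  haveI : IsAlgClosed (ResF M) := Brauer.isAlgClosed_resF hM.2.1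
  haveI : FiniteDimensional (ResF M) (MonoidAlgebra (ResF M) G) :=
    Module.Finite.of_basis (MonoidAlgebra.basis G (ResF M))
  obtain ⟨r, d, e0, he0, hprim0, hev, hout, hind, hgen, m, hm0, hm⟩ := exists_system hM hB
  obtain rfl := eq_one_of_blockRank_eq_one hM hB hl he0 hev hout hind hgen
  set e := idemF M B with he
  have hec : IsCentralElt e := idemF_isCentralElt B
  have hee : e * e = e := idemF_mul_self hB
  have hcomm : ∀ x, e * x = x * e := isCentralElt_commute hec
  -- all primitive idempotents of the block are equivalent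
  have hclass : ∀ b, PrimIdem.IsPrim b → e * b = b →
      PrimIdem.Equivalent b (toF M (e0 0)) := by
    intro b hb hbB
    obtain ⟨τ, hτs, hτ1, hτ2⟩ := PrimIdem.exists_traceFun (ResF M) hb
    obtain ⟨f, hf, hfE, hfb⟩ := exists_lift_below (M := M) (idemS_mul_self hB) hb.1
      (show PrimIdem.Below b (toF M (idemS M B)) from ⟨hbB, by
        show b * e = b
        rw [← hcomm, hbB]⟩)
    obtain ⟨c, hc⟩ := hgen f hf hfE.1
    have h0 := map_toF_eq_zero (f - c 0 • e0 0) (fun χ => by
      rw [map_sub, map_nsmul, hc, hev, Fin.sum_univ_one, nsmul_eq_mul, sub_self]) τ hτs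
    rw [map_sub, map_nsmul, hfb, map_sub, map_nsmul, hτ1, sub_eq_zero] at h0
    refine hτ2 _ (hprim0 0).1 1 ?_
    rw [one_mul]
    intro h
    rw [h, smul_zero] at h0
    exact one_ne_zero h0
  -- the block algebra
  haveI : (annIdeal e).IsTwoSided := ⟨fun {a} b (ha : a * e = 0) => by
    show a * b * e = 0
    rw [mul_assoc, ← hcomm, ← mul_assoc, ha, zero_mul]⟩
  set q := Ideal.Quotient.mkₐ (ResF M) (annIdeal e) with hq
  have hqs : Function.Surjective q := Ideal.Quotient.mk_surjective
  have hq0 : ∀ x, q x = 0 ↔ x * e = 0 := fun x => Ideal.Quotient.eq_zero_iff_mem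
  haveI : FiniteDimensional (ResF M) (MonoidAlgebra (ResF M) G ⧸ annIdeal e) :=
    Module.Finite.of_surjective q.toLinearMap hqs
  obtain ⟨s, hsq⟩ : ∃ s : (MonoidAlgebra (ResF M) G ⧸ annIdeal e) →ₗ[ResF M]
      MonoidAlgebra (ResF M) G, ∀ x, s (q x) = e * x := by
    obtain ⟨σ, hσ⟩ := q.toLinearMap.exists_rightInverse_of_surjective (LinearMap.range_eq_top.2 hqs)
    have hσ' : ∀ y, q (σ y) = y := fun y => LinearMap.congr_fun hσ y
    refine ⟨(LinearMap.mulLeft (ResF M) e).comp σ, fun x => ?_⟩
    have h : q (σ (q x) - x) = 0 := by rw [map_sub, hσ', sub_self]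
    rw [hq0, ← hcomm, mul_sub, sub_eq_zero] at h
    exact h
  have hqe : q e = 1 := by
    rw [← map_one q, ← sub_eq_zero, ← map_sub, hq0, sub_mul, hee, one_mul, sub_self]
  have hqs' : ∀ a, q (s a) = a := fun a => by
    obtain ⟨x, rfl⟩ := hqs a
    rw [hsq, map_mul, hqe, one_mul]
  have hsinj : Function.Injective s := Function.LeftInverse.injective hqs'
  have hsmul : ∀ a b, s (a * b) = s a * s b := fun a b => by
    obtain ⟨x, rfl⟩ := hqs a
    obtain ⟨y, rfl⟩ := hqs b
    rw [← map_mul, hsq, hsq, hsq, mul_assoc e x, ← mul_assoc x e, ← hcomm x]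
    simp only [← mul_assoc, hee]
  have hes : ∀ a, e * s a = s a := fun a => by
    obtain ⟨x, rfl⟩ := hqs a
    rw [hsq, ← mul_assoc, hee]
  have hsprim : ∀ {a}, PrimIdem.IsPrim a → PrimIdem.IsPrim (s a) := by
    intro a ha
    refine ⟨by rw [IsIdempotentElem, ← hsmul, ha.1.eq], fun h => ha.2.1 (hsinj (h.trans (map_zero s).symm)),
      fun f hf hfa => ?_⟩
    have hef : e * f = f := by rw [← hfa.1, ← mul_assoc, hes]
    have hf' : s (q f) = f := by rw [hsq, hef]
    rcases ha.2.2 (q f) (hf.map q) ⟨by rw [← hqs' a, ← map_mul, hfa.1],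
      by rw [← hqs' a, ← map_mul, hfa.2]⟩ with h | h
    · exact Or.inl (by rw [← hf', h, map_zero])
    · exact Or.inr (by rw [← hf', h])
  have hone : ∀ a b, PrimIdem.IsPrim a → PrimIdem.IsPrim b →
      PrimIdem.Equivalent (A := MonoidAlgebra (ResF M) G ⧸ annIdeal e) a b := by
    intro a b ha hb
    obtain ⟨x, y, h1, h2, h3, h4⟩ := (hclass _ (hsprim ha) (hes a)).trans (hsprim ha).1 (hprim0 0).1.1
      (hsprim hb).1 (hclass _ (hsprim hb) (hes b)).symm
    refine ⟨q x, q y, ?_, ?_, ?_, ?_⟩
    · rw [← hqs' a, ← hqs' b, ← map_mul, ← map_mul, h1]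
    · rw [← hqs' a, ← hqs' b, ← map_mul, ← map_mul, h2]
    · rw [← hqs' a, ← map_mul, h3]
    · rw [← hqs' b, ← map_mul, h4]
  -- the coefficient map
  let co : MonoidAlgebra (ResF M) G ≃ₗ[ResF M] (G → ResF M) :=
    { toFun := fun x g => x.coeff g
      map_add' := fun x y => by funext g; simp [coeff_add]
      map_smul' := fun c x => by funext g; simp [coeff_smul]
      invFun := ofFn
      left_inv := fun x => groupAlgebra_ext fun g => by simp
      right_inv := fun f => by funext g; simp }
  have hrange : ∀ a,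
      Module.finrank (ResF M) (LinearMap.range (LinearMap.mulLeft (ResF M) a :
        (MonoidAlgebra (ResF M) G ⧸ annIdeal e) →ₗ[ResF M] _)) =
      Module.finrank (ResF M) (LinearMap.range (mulMat (s a)).mulVecLin) := by
    intro a
    rw [(Submodule.equivMapOfInjective (co.toLinearMap.comp s)
      (co.injective.comp hsinj) _).finrank_eq]
    suffices hr : (LinearMap.range (LinearMap.mulLeft (ResF M) a)).map (co.toLinearMap.comp s) =
        LinearMap.range (mulMat (s a)).mulVecLin by rw [hr]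
    refine le_antisymm ?_ ?_
    · rintro _ ⟨_, ⟨b, rfl⟩, rfl⟩
      exact ⟨co (s b), by
        rw [LinearMap.comp_apply, LinearMap.mulLeft_apply, hsmul, Matrix.mulVecLin_apply]
        exact mulMat_mulVec (s a) (s b)⟩
    · rintro _ ⟨v, rfl⟩
      refine ⟨a * q (co.symm v), ⟨q (co.symm v), rfl⟩, ?_⟩
      rw [LinearMap.comp_apply, hsmul, hsq, Matrix.mulVecLin_apply, ← mul_assoc, ← hcomm, hes]
      show (fun g => (s a * co.symm v).coeff g) = _
      rw [← mulMat_mulVec]
      congr 1
  have hs1 : s 1 = e := by rw [← map_one q, hsq, mul_one]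
  have hdim : Module.finrank (ResF M) (MonoidAlgebra (ResF M) G ⧸ annIdeal e) =
      Module.finrank (ResF M) (LinearMap.range (mulMat e).mulVecLin) := by
    conv_rhs => rw [← hs1, ← hrange 1, LinearMap.range_eq_top.2 (fun y => ⟨y, by simp⟩), finrank_top]
  -- the form
  let τ : (MonoidAlgebra (ResF M) G ⧸ annIdeal e) →ₗ[ResF M] ResF M :=
    (LinearMap.proj (1 : G)).comp (co.toLinearMap.comp s)
  have hτq : ∀ x, τ (q x) = (e * x).coeff 1 := fun x => by
    show (s (q x)).coeff 1 = _
    rw [hsq]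
  have hsym : ∀ u v : MonoidAlgebra (ResF M) G, (u * v).coeff 1 = (v * u).coeff 1 := by
    intro u v
    rw [coeff_mul_sum' u v, coeff_mul_sum v u]
    simp [mul_comm]
  have hτ : ∀ a b, τ (a * b) = τ (b * a) := by
    intro a b
    show (s (a * b)).coeff 1 = (s (b * a)).coeff 1
    rw [hsmul, hsmul, hsym]
  have hnd : ∀ a, (∀ b, τ (a * b) = 0) → a = 0 := by
    intro a ha
    obtain ⟨x, rfl⟩ := hqs a
    rw [hq0, ← hcomm]
    refine groupAlgebra_ext fun g => ?_
    have h := ha (q (single g⁻¹ 1))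
    rw [← map_mul, hτq, ← mul_assoc, coeff_mul_sum'] at h
    rw [coeff_zero, Finsupp.zero_apply]
    simpa [coeff_single, Finsupp.single_apply, inv_inv] using h
  -- the commutator quotient
  let cp : MonoidAlgebra (ResF M) G →ₗ[ResF M] (ConjClasses G → ResF M) :=
    { toFun := classProj
      map_add' := fun x y => by
        funext c
        simp only [classProj, coeff_add, Finsupp.add_apply, Pi.add_apply, ← Finset.sum_add_distrib]
        exact Finset.sum_congr rfl fun g _ => by split_ifs <;> simp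
      map_smul' := fun r x => by
        funext c
        simp only [classProj, coeff_smul, Finsupp.smul_apply, Pi.smul_apply, RingHom.id_apply,
          Finset.smul_sum, smul_ite, smul_zero]
        exact Finset.sum_congr rfl fun g _ => by split_ifs <;> rfl }
  have hk : Module.finrank (ResF M) ((MonoidAlgebra (ResF M) G ⧸ annIdeal e) ⧸
      BlkChar.LocalTrace.commSpan (ResF M) (MonoidAlgebra (ResF M) G ⧸ annIdeal e)) = Nat.card B := by
    set S := BlkChar.LocalTrace.commSpan (ResF M) (MonoidAlgebra (ResF M) G ⧸ annIdeal e) with hS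
    have hkc : S = LinearMap.ker (cp.comp s) := by
      refine le_antisymm ?_ ?_
      · rw [hS, BlkChar.LocalTrace.commSpan, Submodule.span_le]
        rintro _ ⟨⟨a, b⟩, rfl⟩
        obtain ⟨x, rfl⟩ := hqs a
        obtain ⟨y, rfl⟩ := hqs b
        simp only [SetLike.mem_coe, LinearMap.mem_ker, ← map_mul, ← map_sub, LinearMap.comp_apply,
          hsq]
        show classProj (e * (x * y - y * x)) = 0
        rw [classProj_mul hec]
        have h0 : classProj (x * y - y * x) = 0 := by
          have hlin : classProj (x * y - y * x) = classProj (x * y) - classProj (y * x) :=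
            map_sub cp (x * y) (y * x)
          rw [hlin, sub_eq_zero]
          funext c
          simp only [classProj, coeff_mul_sum' x y, coeff_mul_sum y x, ← Finset.sum_filter]
          rw [Finset.sum_comm, Finset.sum_comm (s := Finset.univ.filter _)]
          refine Finset.sum_congr rfl fun z _ => ?_
          simp only [mul_comm (y.coeff z)]
          rw [Finset.sum_filter, Finset.sum_filter]
          refine Fintype.sum_equiv (MulAut.conj z).toEquiv _ _ fun g => ?_
          show _ = if ConjClasses.mk (z * g * z⁻¹) = c then _ else _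
          refine if_congr ?_ ?_ rfl
          · rw [ConjClasses.mk_eq_mk_iff_isConj.2 (isConj_iff.2 ⟨z, rfl⟩ : IsConj g (z * g * z⁻¹))]
          · show _ = x.coeff (z⁻¹ * (z * g * z⁻¹)) * _
            rw [show z⁻¹ * (z * g * z⁻¹) = g * z⁻¹ by group]
        rw [h0, Matrix.mulVec_zero]
      · intro a ha
        have ha' : classProj (s a) = 0 := ha
        rw [← hqs' a]
        refine Submodule.span_induction ?_ ?_ ?_ ?_ (mem_commSpan_of_classProj_eq_zero _ ha')
        · rintro _ ⟨⟨x, y⟩, rfl⟩
          simp only [map_sub, map_mul]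
          exact BlkChar.LocalTrace.comm_mem _ _
        · rw [map_zero]; exact Submodule.zero_mem _
        · intro x y _ _ hx hy; rw [map_add]; exact Submodule.add_mem _ hx hy
        · intro c x _ hx; rw [map_smul]; exact Submodule.smul_mem _ c hx
    rw [hkc, (cp.comp s).quotKerEquivRange.finrank_eq]
    have hr : LinearMap.range (cp.comp s) = LinearMap.range (classMat e).mulVecLin := by
      refine le_antisymm ?_ ?_
      · rintro _ ⟨a, rfl⟩
        obtain ⟨x, rfl⟩ := hqs a
        refine ⟨classProj x, ?_⟩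
        rw [Matrix.mulVecLin_apply, LinearMap.comp_apply, hsq]
        exact (classProj_mul hec x).symm
      · rintro _ ⟨v, rfl⟩
        obtain ⟨x, rfl⟩ := classProj_surjective v
        refine ⟨q x, ?_⟩
        rw [Matrix.mulVecLin_apply, LinearMap.comp_apply, hsq]
        exact classProj_mul hec x
    rw [hr]
    have h := finrank_range_classMat (M := M) hB
    exact_mod_cast h
  haveI : Nontrivial (MonoidAlgebra (ResF M) G ⧸ annIdeal e) := by
    refine ⟨⟨1, 0, fun h => ?_⟩⟩
    rw [← map_one q, hq0, one_mul] at h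
    obtain ⟨χ₀, hχ₀⟩ := pBlock_nonempty hB
    have := lam_idemF_of_mem hB hχ₀
    rw [← he, h, lam_zero] at this
    exact zero_ne_one this
  obtain ⟨n, a, ha, hR, hrow⟩ :=
    BlkChar.LocalSymm.exists_matrix_dims τ hτ hnd hone (by rw [hk]; exact hk4)
  rw [hk] at hR hrow
  -- compare with the characters
  obtain ⟨f, hf, hfE, hfa⟩ := exists_lift_below (M := M) (idemS_mul_self hB) (hsprim ha).1
    (show PrimIdem.Below (s a) (toF M (idemS M B)) from ⟨hes a, by
      show s a * e = s a
      rw [← hcomm, hes]⟩)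
  have hfev : ∀ χ : IrrCharacter G, ev (χ : G → ℂ) f = d 0 χ := fun χ => by
    rw [← hev, ev_eq_of_equivalent hf (he0 0) (hfa ▸ hclass _ (hsprim ha) (hes a))
      (Char.isCharacter_of_irr χ.2)]
  set BF := Finset.univ.filter (· ∈ B) with hBF
  have hinB : ∀ χ : IrrCharacter G, χ ∈ BF ↔ χ ∈ B := fun χ => by simp [hBF]
  set S := ∑ χ ∈ BF, d 0 χ ^ 2 with hSdef
  have hdeg : ∀ χ ∈ B, (χ : G → ℂ) 1 = ((m 0 * d 0 χ : ℕ) : ℂ) := fun χ hχ => by
    rw [hm χ hχ, Fin.sum_univ_one]; push_cast; rfl
  have hdeg' : ∀ χ ∈ B, charDegree (χ : G → ℂ) = m 0 * d 0 χ := fun χ hχ => by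
    have := hdeg χ hχ
    rw [(BlockVal.irr_one_eq_charDegree χ).1] at this
    exact_mod_cast this
  have hA : n ^ 2 * Nat.card B = m 0 ^ 2 * S := by
    have h := finrank_range_mulMat (M := M) hB
    rw [← he, ← hdim, hR] at h
    have h2 : ((n ^ 2 * Nat.card B : ℕ) : ℂ) = ((m 0 ^ 2 * S : ℕ) : ℂ) := by
      rw [h, hSdef, Finset.mul_sum, Nat.cast_sum]
      refine Finset.sum_congr rfl fun χ hχ => ?_
      rw [hdeg χ ((hinB χ).1 hχ)]; push_cast; ring
    exact_mod_cast h2
  have hrow' : n * Nat.card B = m 0 * S := by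
    have h := finrank_range_map_eq_trace (red M) red_surjective (localRing M).subtype
      Subtype.val_injective (mulMat f) (mulMat_mul_self hf.eq)
    rw [mulMat_mapR, mulMat_mapR, show mapR (red M) f = s a from hfa, ← hrange a, hrow] at h
    have h2 : ((n * Nat.card B : ℕ) : ℂ) = ((m 0 * S : ℕ) : ℂ) := by
      rw [h]
      simp only [Matrix.trace, Matrix.diag, mulMat, Matrix.of_apply, mul_inv_cancel, coeff_mapR,
        Finset.sum_const, Finset.card_univ, nsmul_eq_mul, ← Nat.card_eq_fintype_card,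
        Subring.coe_subtype]
      rw [card_mul_coeff_one, ← Finset.sum_subset (Finset.subset_univ BF) (fun χ _ hχ => by
        rw [hfev, hout 0 χ (fun h => hχ ((hinB χ).2 h)), Nat.cast_zero, zero_mul]), hSdef,
        Finset.mul_sum, Nat.cast_sum]
      refine Finset.sum_congr rfl fun χ hχ => ?_
      rw [hfev, hdeg χ ((hinB χ).1 hχ), Complex.conj_natCast]; push_cast; ring
    exact_mod_cast h2
  obtain ⟨χ₀, hχ₀, h0⟩ := BlockVal.exists_height_zero (p := p) (pBlock_nonempty hB)
  have hd0χ : d 0 χ₀ ≠ 0 := fun h => (BlockVal.irr_one_eq_charDegree χ₀).2 (by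
    rw [hdeg' χ₀ hχ₀, h, mul_zero])
  have hS0 : 0 < S := lt_of_lt_of_le (pow_pos (Nat.pos_of_ne_zero hd0χ) 2)
    (Finset.single_le_sum (f := fun χ => d 0 χ ^ 2) (fun _ _ => Nat.zero_le _) ((hinB χ₀).2 hχ₀))
  have hnm : n = m 0 := Nat.eq_of_mul_eq_mul_right (Nat.mul_pos (hm0 0) hS0) (by
    rw [← hrow', ← mul_assoc, ← pow_two, hA, hrow']
    ring)
  have hSk : Nat.card B = S := Nat.eq_of_mul_eq_mul_left (hm0 0) (by rw [← hrow', hnm])
  have hfact := BlockVal.factorization_sum_sq hM hB hχ₀ h0
  have hT : ∑ η ∈ Finset.univ.filter (· ∈ B), charDegree (η : G → ℂ) ^ 2 =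
      m 0 ^ 2 * Nat.card B := by
    rw [hSk, hSdef, Finset.mul_sum]
    exact Finset.sum_congr rfl fun χ hχ => by rw [hdeg' χ ((hinB χ).1 hχ)]; ring
  rw [hT, Nat.factorization_mul (pow_ne_zero _ (hm0 0).ne') (by omega), Finsupp.add_apply,
    Nat.factorization_pow, Finsupp.smul_apply, smul_eq_mul] at hfact
  have hdefect := BlockVal.blockDefect_eq hχ₀ h0
  have hle : (m 0).factorization p ≤ (charDegree (χ₀ : G → ℂ)).factorization p :=
    (Nat.factorization_le_iff_dvd (hm0 0).ne' (BlockVal.irr_one_eq_charDegree χ₀).2).2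
      (hdeg' χ₀ hχ₀ ▸ dvd_mul_right _ _) p
  have hba := BlockVal.factorization_degree_le p χ₀
  have hk0 : Nat.card B ≠ 0 := by omega
  have hp := hM.1
  have hv : p ^ (Nat.card B).factorization p ∣ Nat.card B := Nat.ordProj_dvd _ _
  have hv1 : 1 ≤ (Nat.card B).factorization p := by omega
  have hpk : p ∣ Nat.card B := (dvd_pow_self p (by omega)).trans hv
  have hp4 : p ≤ 4 := (Nat.le_of_dvd (by omega) hpk).trans hk4
  have hp23 : p = 2 ∨ p = 3 := by
    have := hp.two_le
    by_contra h
    push Not at h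
    exact (by decide : ¬ Nat.Prime 4) (show p = 4 by omega ▸ hp)
  refine ⟨?_, hp23⟩
  have f22 : Nat.factorization 2 2 = 1 := Nat.prime_two.factorization_self
  have f33 : Nat.factorization 3 3 = 1 := Nat.prime_three.factorization_self
  have f42 : Nat.factorization 4 2 = 2 := by
    rw [show (4 : ℕ) = 2 ^ 2 by norm_num, Nat.prime_two.factorization_pow, Finsupp.single_eq_same]
  rcases hp23 with rfl | rfl
  · obtain h2 | h4 : Nat.card B = 2 ∨ Nat.card B = 4 := by omega
    · rw [h2] at hfact ⊢
      rw [show blockDefect 2 B = 1 by omega]; norm_num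
    · rw [h4] at hfact ⊢
      rw [show blockDefect 2 B = 2 by omega]; norm_num
  · have h3 : Nat.card B = 3 := by omega
    rw [h3] at hfact ⊢
    rw [show blockDefect 3 B = 1 by omega]; norm_num

end Cfsg.Agent.Brauer.ProjVec
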