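import Cfsg.Agent.BrauerPairs.AbelianLocal
import Cfsg.Agent.BlockVal.SubsectionNonzero
import Cfsg.Agent.BlockVal.SectionCount
import Cfsg.Agent.BrauerPairs.CyclicDefect.Count
import Cfsg.Agent.S4689

/-!
# Blocks of regular rank one with a defect group of order at most four

Nontrivial fusion would leave a single class of nontrivial subsections, each of rank one, hence
two characters only.
-/

set_option autoImplicit false
set_option linter.style.haveILetI false

namespace Cfsg.Agent.Brauer.SmallDefect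

open Cfsg Cfsg.Agent.BrauerPairs Cfsg.Agent.SubsecNZ
open MonoidAlgebra (single)

universe u

variable {G : Type u} [Group G] {p : ℕ}

/-- A group of order a power of `p` at most four is commutative. -/
theorem commute_of_card_le_four [Finite G] [Fact p.Prime] {P : Subgroup G} (hP : IsPGroup p P)
    (h4 : Nat.card P ≤ 4) : ∀ x ∈ P, ∀ y ∈ P, x * y = y * x := by
  have h : ∀ a b : P, a * b = b * a := by
    obtain ⟨n, hn⟩ := IsPGroup.iff_card.mp hP
    have hp := (Fact.out : p.Prime).two_le
    rcases n with - | - | - | n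
    · haveI : Subsingleton P := (Nat.card_eq_one_iff_unique.1 (by rw [hn, pow_zero])).1
      exact fun a b => Subsingleton.elim _ _
    · haveI : IsCyclic P := isCyclic_of_prime_card (p := p) (by rw [hn, pow_one])
      exact fun a b => mul_comm' a b
    · exact IsPGroup.commutative_of_card_eq_prime_sq (by rw [hn])
    · exfalso
      rw [hn] at h4
      have e3 : n + 1 + 1 + 1 = n + 3 := rfl
      rw [e3] at h4
      have h1 : 2 ^ (n + 3) ≤ p ^ (n + 3) := Nat.pow_le_pow_left hp _
      have h2 : 2 ^ 3 ≤ 2 ^ (n + 3) := Nat.pow_le_pow_right (by norm_num) (by omega)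
      omega
  exact fun x hx y hy => congrArg Subtype.val (h ⟨x, hx⟩ ⟨y, hy⟩)

variable [Finite G] {M : Ideal AlgInt} [M.IsPrime]

/-- An element of the stabiliser fixing a nonidentity element centralises a small defect group. -/
theorem mem_centralizer_of_fix [Fact p.Prime] [CharP (Block.ResF M) p] {B : Set (IrrCharacter G)} {P : Subgroup G}
    {c : Blk M (Subgroup.centralizer (P : Set G))}
    (hm : IsMaximalBrauerPair p M B P c.1) (h4 : Nat.card P ≤ 4) {u : G} (hu : u ∈ P)
    (hu1 : u ≠ 1) {z : G} (hz : z ∈ stab (⟨P, c⟩ : PairIdx M G)) (hfix : z * u * z⁻¹ = u) :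
    z ∈ Subgroup.centralizer (P : Set G) := by
  classical
  letI := Fintype.ofFinite G
  have hP : IsPGroup p P := hm.1.1.1
  have hab := commute_of_card_le_four hP h4
  have hnd := not_dvd_relIndex_stab hm hab
  set m := (Subgroup.centralizer (P : Set G)).relIndex (stab (⟨P, c⟩ : PairIdx M G)) with hmdef
  have hzm : z ^ m ∈ Subgroup.centralizer (P : Set G) := by
    haveI : ((Subgroup.centralizer (P : Set G)).subgroupOf (stab (⟨P, c⟩ : PairIdx M G))).Normal :=
      Subgroup.normal_subgroupOf_of_le_normalizer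
        ((stab_le_normalizer _).trans (normalizer_le_normalizer_centralizer P))
    have := Subgroup.pow_index_mem
      ((Subgroup.centralizer (P : Set G)).subgroupOf (stab (⟨P, c⟩ : PairIdx M G))) ⟨z, hz⟩
    simpa [Subgroup.mem_subgroupOf, hmdef, Subgroup.relIndex] using this
  -- the element and the order of its action
  have hzP : ∀ x ∈ P, z * x * z⁻¹ ∈ P := fun x hx =>
    ((Subgroup.mem_normalizer_iff.1 hz.1) x).1 hx
  rw [Subgroup.mem_centralizer_iff]
  intro x hx'
  have hx : x ∈ P := hx'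
  suffices h : z * x * z⁻¹ = x by
    calc x * z = z * x * z⁻¹ * z := by rw [h]
      _ = z * x := by group
  by_contra hne
  have hx1 : x ≠ 1 := fun h => hne (by subst h; group)
  set x' := z * x * z⁻¹
  have hxu : x ≠ u := fun h => hne (by rw [h]; simpa [x', h] using hfix)
  have hx'u : x' ≠ u := fun h => hxu (by
    have : z * x * z⁻¹ = z * u * z⁻¹ := h.trans hfix.symm
    simpa using this)
  have hx'1 : x' ≠ 1 := fun h => hx1 (by simpa [x'] using h)
  set F := Finset.univ.filter (· ∈ P)
  have hF : F.card = Nat.card P := by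
    rw [Nat.card_eq_fintype_card, Fintype.card_subtype]
  have hsub : ({1, u, x, x'} : Finset G) ⊆ F := by
    intro a ha
    simp only [Finset.mem_insert, Finset.mem_singleton] at ha
    rcases ha with rfl | rfl | rfl | rfl
    · simp [F, P.one_mem]
    · simp [F, hu]
    · simp [F, hx]
    · simp [F, x', hzP x hx]
  have hcard : ({1, u, x, x'} : Finset G).card = 4 := by
    simp [Ne.symm hu1, Ne.symm hx1, Ne.symm hx'1, Ne.symm hxu, Ne.symm hx'u, Ne.symm hne]
  have hP4 : Nat.card P = 4 := le_antisymm h4 (by rw [← hF, ← hcard]; exact Finset.card_le_card hsub)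
  have hFeq : ({1, u, x, x'} : Finset G) = F :=
    Finset.eq_of_subset_of_card_le hsub (by rw [hF, hP4, hcard])
  have hp2 : p = 2 := by
    obtain ⟨n, hn⟩ := IsPGroup.iff_card.mp hP
    have hn0 : n ≠ 0 := fun h => by rw [h, hP4] at hn; norm_num at hn
    have hdvd : p ∣ 2 ^ 2 := by
      rw [show (2 : ℕ) ^ 2 = 4 by norm_num, ← hP4, hn]; exact dvd_pow_self p hn0
    exact (Nat.prime_dvd_prime_iff_eq (Fact.out : p.Prime) Nat.prime_two).1
      ((Fact.out : p.Prime).dvd_of_dvd_pow hdvd)
  have hz2 : z * x' * z⁻¹ = x := by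
    have hmem : z * x' * z⁻¹ ∈ F := by simp [F, x', hzP _ (hzP x hx)]
    rw [← hFeq] at hmem
    simp only [Finset.mem_insert, Finset.mem_singleton] at hmem
    rcases hmem with h | h | h | h
    · exact absurd (by simpa using h) hx'1
    · exact absurd (by simpa using h.trans hfix.symm) hx'u
    · exact h
    · exact absurd (by simpa [x'] using h) hne
  have heven : ∀ j : ℕ, z ^ (2 * j) * x * (z ^ (2 * j))⁻¹ = x := by
    intro j
    induction j with
    | zero => simp
    | succ j ih =>
      calc z ^ (2 * (j + 1)) * x * (z ^ (2 * (j + 1)))⁻¹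
          = z * (z * (z ^ (2 * j) * x * (z ^ (2 * j))⁻¹) * z⁻¹) * z⁻¹ := by
            rw [Nat.mul_succ, pow_succ', pow_succ']
            group
        _ = x := by rw [ih]; exact hz2
  obtain ⟨j, hj⟩ : ∃ j, m = 2 * j + 1 := by
    subst hp2
    exact ⟨m / 2, by omega⟩
  apply hne
  have h1 := Subgroup.mem_centralizer_iff.1 hzm x hx
  have h2 : z ^ m * x * (z ^ m)⁻¹ = x := by rw [← h1]; group
  rw [hj, pow_succ'] at h2
  calc x' = z * (z ^ (2 * j) * x * (z ^ (2 * j))⁻¹) * z⁻¹ := by rw [heven]
    _ = z * z ^ (2 * j) * x * (z * z ^ (2 * j))⁻¹ := by group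
    _ = x := h2

/-- The blocks of centralisers on a subsection of a small defect group have rank one. -/
theorem blockRank_eq_one_of_pair (hM : IsPModular p M) {B : Blk M G} {u : G} (hu1 : u ≠ 1)
    (f : Blk M (Subgroup.centralizer (Subgroup.zpowers u : Set G)))
    (hpair : PairOf (blockSysTop M) (pairSys M G) p B ⟨Subgroup.zpowers u, f⟩)
    (h4 : ∀ P : Subgroup G, IsDef (blockSysTop M) p B P → Nat.card P ≤ 4) :
    blockRank p f.1 = 1 := by
  haveI : Fact p.Prime := ⟨hM.1⟩
  haveI := Block.charP_resF hM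
  obtain ⟨⟨P, c⟩, hle, hmax⟩ := exists_maxPair_above hpair
  have hP4 : Nat.card P ≤ 4 := h4 P hmax.isDef
  have hm : IsMaximalBrauerPair p M B.1 P c.1 := (isMaximalBrauerPair_iff B ⟨P, c⟩).2 hmax
  have hP : IsPGroup p P := hm.1.1.1
  have hab := commute_of_card_le_four hP hP4
  have huP : u ∈ P := hle.le (Subgroup.mem_zpowers u)
  have hPN : P ≤ Subgroup.normalizer (Subgroup.zpowers u : Set G) :=
    (le_centralizer_of_abelian hab hle.le).trans (Subgroup.centralizer_le_normalizer _)
  obtain ⟨f', hf', -⟩ := existsUnique_nsub (S := pairSys M G) (p := p) (b := ⟨P, c⟩) hP hle.le hPN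
  obtain ⟨f₀, -, huniq⟩ := existsUnique_sle (S := pairSys M G) (p := p) (b := ⟨P, c⟩) hP hle.le
  have hff : f = f' := (huniq f hle).trans (huniq f' (Relation.ReflTransGen.single hf')).symm
  have hnil : IsNilpotentBlock p M f'.1 := by
    rw [isNilpotentBlock_local_iff hm hab hf']
    rintro z ⟨hz, hzu⟩
    refine mem_centralizer_of_fix hm hP4 huP hu1 hz ?_
    have h := Subgroup.mem_centralizer_iff.1 hzu u (Subgroup.mem_zpowers u)
    rw [← h]; group
  haveI := Fintype.ofFinite (Subgroup.centralizer (Subgroup.zpowers u : Set G))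
  rw [hff]
  exact (S4689.result p M hM f'.1 hnil).1

/-- The subsection of a block of the centraliser of a `p`-element. -/
theorem exists_pair_of_induced (hM : IsPModular p M) {B : Blk M G} {x : G} {k : ℕ}
    (hx : orderOf x = p ^ k) {C : Subgroup G}
    (hC : C = Subgroup.centralizer (Subgroup.zpowers x : Set G)) (b : Set (IrrCharacter C))
    (hb : IsInducedBlock M C b B.1) :
    ∃ f : Blk M (Subgroup.centralizer (Subgroup.zpowers x : Set G)),
      PairOf (blockSysTop M) (pairSys M G) p B ⟨Subgroup.zpowers x, f⟩ ∧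
      blockRank p f.1 = blockRank p b ∧ HEq f.1 b := by
  subst hC
  have hbb : IsPBlock M b := hb.1
  exact ⟨⟨b, hbb⟩, pairOf_of_isInducedBlock hM B
    (IsPGroup.of_card (n := k) (by rw [Nat.card_zpowers, hx])) ⟨b, hbb⟩ hb, rfl, HEq.rfl⟩

variable [Fintype G]

/-- A stabiliser moving a defect group of order at most four leaves room for one nontrivial
subsection only. -/
theorem card_le_blockRank_add_one (hM : IsPModular p M) {B : Set (IrrCharacter G)}
    (hB : IsPBlock M B) {D : Subgroup G} {c : Blk M (Subgroup.centralizer (D : Set G))}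
    (hmax : MaxPair (blockSysTop M) (pairSys M G) p (⟨B, hB⟩ : Blk M G) ⟨D, c⟩)
    (h4 : Nat.card D ≤ 4) {y : G} (hy : y ∈ stab (⟨D, c⟩ : PairIdx M G))
    (hyC : y ∉ Subgroup.centralizer (D : Set G)) : Nat.card B ≤ blockRank p B + 1 := by
  classical
  haveI : Fact p.Prime := ⟨hM.1⟩
  haveI := Block.charP_resF hM
  set B' : Blk M G := ⟨B, hB⟩
  have hDef : IsDef (blockSysTop M) p B' D := hmax.isDef
  have hm : IsMaximalBrauerPair p M B D c.1 := (isMaximalBrauerPair_iff B' ⟨D, c⟩).2 hmax
  have hDp : IsPGroup p D := hm.1.1.1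
  have hab := commute_of_card_le_four hDp h4
  have h4all : ∀ P : Subgroup G, IsDef (blockSysTop M) p B' P → Nat.card P ≤ 4 := fun P hP => by
    obtain ⟨z, hz⟩ := hP.exists_conj hDef
    rw [hz, Subgroup.card_map_of_injective (MulAut.conj z).injective] at h4
    exact h4
  set act : G → G → G := fun z v => z * v * z⁻¹
  -- the stabiliser is transitive on the nonidentity elements
  have hmove : ∀ v ∈ D, v ≠ 1 → act y v ≠ v := fun v hv hv1 h =>
    hyC (mem_centralizer_of_fix hm h4 hv hv1 hy h)
  have hmemD : ∀ z ∈ stab (⟨D, c⟩ : PairIdx M G), ∀ v ∈ D, act z v ∈ D := fun z hz v hv =>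
    ((Subgroup.mem_normalizer_iff.1 hz.1) v).1 hv
  set F := Finset.univ.filter (· ∈ D)
  have hF : F.card = Nat.card D := by
    rw [Nat.card_eq_fintype_card, Fintype.card_subtype]
  have htrans : ∀ v ∈ D, v ≠ 1 → ∀ w ∈ D, w ≠ 1 →
      ∃ z ∈ stab (⟨D, c⟩ : PairIdx M G), act z v = w := by
    intro v hv hv1 w hw hw1
    by_cases h0 : w = v
    · exact ⟨1, Subgroup.one_mem _, by simp [act, h0]⟩
    by_cases h1 : w = act y v
    · exact ⟨y, hy, h1.symm⟩
    set v' := act y v with hv'
    set v'' := act y v' with hv''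
    have hv'D : v' ∈ D := hmemD y hy v hv
    have hv''D : v'' ∈ D := hmemD y hy v' hv'D
    have hv'1 : v' ≠ 1 := fun h => hv1 (by simpa [hv', act] using h)
    have hv''1 : v'' ≠ 1 := fun h => hv'1 (by simpa [hv'', act] using h)
    have hsub : ({1, v, v', w} : Finset G) ⊆ F := by
      intro a ha
      simp only [Finset.mem_insert, Finset.mem_singleton] at ha
      rcases ha with rfl | rfl | rfl | rfl
      · simp [F, D.one_mem]
      · simp [F, hv]
      · simp [F, hv'D]
      · simp [F, hw]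
    have hvv : v' ≠ v := hmove v hv hv1
    have hcard : ({1, v, v', w} : Finset G).card = 4 := by
      simp [Ne.symm hv1, Ne.symm hv'1, Ne.symm hw1, Ne.symm hvv, Ne.symm h0, Ne.symm h1]
    have hFeq : ({1, v, v', w} : Finset G) = F :=
      Finset.eq_of_subset_of_card_le hsub (by rw [hF, hcard]; exact h4)
    have hmem : v'' ∈ F := by simp [F, hv''D]
    rw [← hFeq] at hmem
    simp only [Finset.mem_insert, Finset.mem_singleton] at hmem
    rcases hmem with h | h | h | h
    · exact absurd h hv''1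
    · -- the action would be an involution
      refine absurd ?_ hyC
      have hy2 : y ^ 2 ∈ Subgroup.centralizer (D : Set G) :=
        mem_centralizer_of_fix hm h4 hv hv1 (pow_mem hy 2) (by
          calc y ^ 2 * v * (y ^ 2)⁻¹ = act y (act y v) := by simp [act, pow_two, mul_assoc]
            _ = v := h)
      set m := (Subgroup.centralizer (D : Set G)).relIndex (stab (⟨D, c⟩ : PairIdx M G)) with hmdef
      have hnd := not_dvd_relIndex_stab hm hab
      have hym : y ^ m ∈ Subgroup.centralizer (D : Set G) := by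
        haveI : ((Subgroup.centralizer (D : Set G)).subgroupOf
            (stab (⟨D, c⟩ : PairIdx M G))).Normal :=
          Subgroup.normal_subgroupOf_of_le_normalizer
            ((stab_le_normalizer _).trans (normalizer_le_normalizer_centralizer D))
        have := Subgroup.pow_index_mem
          ((Subgroup.centralizer (D : Set G)).subgroupOf (stab (⟨D, c⟩ : PairIdx M G))) ⟨y, hy⟩
        simpa [Subgroup.mem_subgroupOf, hmdef, Subgroup.relIndex] using this
      have hp2 : p = 2 := by
        obtain ⟨n, hn⟩ := IsPGroup.iff_card.mp hDp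
        have hn4 : Nat.card D = 4 := le_antisymm h4 (by rw [← hF, ← hFeq, hcard])
        have hn0 : n ≠ 0 := fun h => by rw [h, hn4] at hn; norm_num at hn
        have hdvd : p ∣ 2 ^ 2 := by
          rw [show (2 : ℕ) ^ 2 = 4 by norm_num, ← hn4, hn]; exact dvd_pow_self p hn0
        exact (Nat.prime_dvd_prime_iff_eq (Fact.out : p.Prime) Nat.prime_two).1
          ((Fact.out : p.Prime).dvd_of_dvd_pow hdvd)
      obtain ⟨j, hj⟩ : ∃ j, m = 2 * j + 1 := by subst hp2; exact ⟨m / 2, by omega⟩
      have e : y = ((y ^ 2) ^ j)⁻¹ * y ^ m := by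
        rw [hj, ← pow_mul, pow_add, pow_one, inv_mul_cancel_left]
      rw [e]
      exact mul_mem (inv_mem (pow_mem hy2 j)) hym
    · exact absurd h (hmove v' hv'D hv'1)
    · exact ⟨y * y, mul_mem hy hy, by rw [← h, hv'', hv']; simp [act, mul_assoc]⟩
  -- representatives of the classes of `p`-elements
  obtain ⟨X, hX, hXrep, h1X⟩ : ∃ X : Finset G, (∀ x ∈ X, ∃ k : ℕ, orderOf x = p ^ k) ∧
      (∀ g : G, (∃ k : ℕ, orderOf g = p ^ k) → ∃! x, x ∈ X ∧ IsConj g x) ∧ (1 : G) ∈ X := by
    let rep : G → G := fun g => (ConjClasses.mk g).out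
    have hrep : ∀ g, IsConj g (rep g) := fun g =>
      (ConjClasses.mk_eq_mk_iff_isConj.1 (Quotient.out_eq (ConjClasses.mk g))).symm
    have hord : ∀ {g h : G}, IsConj g h → orderOf g = orderOf h := fun {g h} hgh => by
      obtain ⟨t, rfl⟩ := isConj_iff.1 hgh
      rw [← MulAut.conj_apply, MulEquiv.orderOf_eq]
    refine ⟨(Finset.univ.filter fun g : G => ∃ k : ℕ, orderOf g = p ^ k).image rep, ?_, ?_, ?_⟩
    · intro x hx
      obtain ⟨g, hg, rfl⟩ := Finset.mem_image.1 hx
      obtain ⟨k, hk⟩ := (Finset.mem_filter.1 hg).2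
      exact ⟨k, (hord (hrep g)).symm.trans hk⟩
    · intro g hg
      refine ⟨rep g, ⟨Finset.mem_image.2 ⟨g, Finset.mem_filter.2 ⟨Finset.mem_univ _, hg⟩, rfl⟩,
        hrep g⟩, ?_⟩
      rintro x ⟨hx, hgx⟩
      obtain ⟨g', -, rfl⟩ := Finset.mem_image.1 hx
      exact congrArg Quotient.out (ConjClasses.mk_eq_mk_iff_isConj.2 ((hrep g').trans hgx.symm))
    · refine Finset.mem_image.2 ⟨1, Finset.mem_filter.2 ⟨Finset.mem_univ _, 0, by simp⟩, ?_⟩
      exact isConj_one_right.1 (hrep 1)
  have hcount := SecCount.card_block_eq_sum hM hB X hX hXrep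
  -- the nontrivial subsections form a single class
  set Sb : ∀ x : G, Set (Set (IrrCharacter ↥(Subgroup.centralizer ({x} : Set G)))) := fun x =>
    {b | IsInducedBlock M (Subgroup.centralizer ({x} : Set G)) b B}
  have hzp : ∀ x : G, Subgroup.centralizer ({x} : Set G) =
      Subgroup.centralizer (Subgroup.zpowers x : Set G) := fun x => by
    rw [← Subgroup.centralizer_closure {x}, ← Subgroup.zpowers_eq_closure]
  have hmain : ∀ x ∈ X, x ≠ 1 → ∀ b ∈ Sb x, blockRank p b = 1 ∧
      ∀ x' ∈ X, x' ≠ 1 → ∀ b' ∈ Sb x', x' = x ∧ HEq b' b := by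
    intro x hx hx1 b hb
    obtain ⟨k, hk⟩ := hX x hx
    obtain ⟨f, hf, hfr, hfb⟩ := exists_pair_of_induced hM (B := B') hk (hzp x) b hb
    refine ⟨hfr ▸ blockRank_eq_one_of_pair hM hx1 f hf h4all, fun x' hx' hx'1 b' hb' => ?_⟩
    obtain ⟨k', hk'⟩ := hX x' hx'
    obtain ⟨f', hf', -, hfb'⟩ := exists_pair_of_induced hM (B := B') hk' (hzp x') b' hb'
    obtain ⟨g, ⟨Q, e⟩, hge, hle⟩ := hmax.exists_conj_sle hf
    obtain ⟨g', ⟨Q', e'⟩, hge', hle'⟩ := hmax.exists_conj_sle hf'
    have hQ : (Subgroup.zpowers x).map (MulAut.conj g).toMonoidHom = Q := hge.1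
    have hQ' : (Subgroup.zpowers x').map (MulAut.conj g').toMonoidHom = Q' := hge'.1
    have hv : act g x ∈ D := hle.le (by
      show g * x * g⁻¹ ∈ Q
      rw [← hQ]; exact ⟨x, Subgroup.mem_zpowers x, rfl⟩)
    have hv' : act g' x' ∈ D := hle'.le (by
      show g' * x' * g'⁻¹ ∈ Q'
      rw [← hQ']; exact ⟨x', Subgroup.mem_zpowers x', rfl⟩)
    obtain ⟨z, hz, hzv⟩ := htrans _ hv (fun h => hx1 (by simpa [act] using h)) _ hv'
      (fun h => hx'1 (by simpa [act] using h))
    have hh : (g'⁻¹ * z * g) * x * (g'⁻¹ * z * g)⁻¹ = x' := by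
      calc (g'⁻¹ * z * g) * x * (g'⁻¹ * z * g)⁻¹ = g'⁻¹ * act z (act g x) * g' := by
            simp [act, mul_assoc]
        _ = x' := by rw [hzv]; simp [act, mul_assoc]
    obtain ⟨x₀, -, huniq⟩ := hXrep x ⟨k, hk⟩
    have hxx : x' = x := (huniq x' ⟨hx', isConj_iff.2 ⟨_, hh⟩⟩).trans
      (huniq x ⟨hx, IsConj.refl x⟩).symm
    refine ⟨hxx, ?_⟩
    subst hxx
    obtain ⟨⟨Q'', e''⟩, hz2⟩ := exists_cjRel (S := pairSys M G) z (⟨Q, e⟩ : PairIdx M G)
    have hle'' := hle.cjRel hz2 (cjRel_self_of_mem_stab hz)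
    obtain rfl : Q'' = Q' := by
      have hQ'' : Q.map (MulAut.conj z).toMonoidHom = Q'' := hz2.1
      rw [← hQ'', ← hQ', ← hQ]
      rw [MonoidHom.map_zpowers, MonoidHom.map_zpowers, MonoidHom.map_zpowers]
      congr 1
    obtain ⟨e₀, -, hu'⟩ := existsUnique_sle (S := pairSys M G) (p := p) (b := ⟨D, c⟩) hDp hle'.le
    obtain rfl : e'' = e' := (hu' _ hle'').trans (hu' _ hle').symm
    have hrel := ((hge.trans hz2).trans hge'.symm)
    have hmem : g'⁻¹ * (z * g) ∈ Subgroup.centralizer (Subgroup.zpowers x' : Set G) := by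
      rw [← hzp, Subgroup.mem_centralizer_singleton_iff, ← mul_assoc g'⁻¹]
      calc g'⁻¹ * z * g * x' = g'⁻¹ * z * g * x' * (g'⁻¹ * z * g)⁻¹ * (g'⁻¹ * z * g) := by group
        _ = x' * (g'⁻¹ * z * g) := by rw [hh]
    have hidem := hrel.2
    simp only at hidem
    rw [fixed_iff_cj.1 ((pairSys M G (Subgroup.zpowers x')).central_idem f).fixed _ hmem] at hidem
    have hfe : f' = f := (pairSys M G (Subgroup.zpowers x')).idem_injective hidem
    exact hfb'.symm.trans (heq_of_eq (congrArg Subtype.val hfe) |>.trans hfb)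
  have hrest : ∑ x ∈ X.erase 1, ∑ᶠ b ∈ Sb x, blockRank p b ≤ 1 := by
    by_cases h : ∃ x ∈ X.erase 1, (Sb x).Nonempty
    · obtain ⟨x, hx, b, hb⟩ := h
      obtain ⟨hx1, hxX⟩ := Finset.mem_erase.1 hx
      obtain ⟨hr, hu⟩ := hmain x hxX hx1 b hb
      rw [Finset.sum_eq_single x]
      · have hS : Sb x = {b} := Set.eq_singleton_iff_unique_mem.2
          ⟨hb, fun b' hb' => eq_of_heq (hu x hxX hx1 b' hb').2⟩
        rw [hS, finsum_mem_singleton, hr]
      · intro x' hx' hne
        obtain ⟨hx'1, hx'X⟩ := Finset.mem_erase.1 hx'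
        rw [show Sb x' = ∅ from Set.eq_empty_of_forall_notMem fun b' hb' =>
          hne (hu x' hx'X hx'1 b' hb').1, finsum_mem_empty]
      · exact fun h => absurd hx h
    · push Not at h
      rw [Finset.sum_eq_zero fun x hx => by
        rw [h x hx, finsum_mem_empty]]
      exact Nat.zero_le _
  rw [← Finset.add_sum_erase X _ h1X, CyclicDefect.rank_at_one hM hB] at hcount
  simp only [Sb] at hrest
  omega

/-- A stabiliser moving a defect group of order at most four makes its order at least three. -/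
theorem three_le_card [Fact p.Prime] [CharP (Block.ResF M) p] {B : Set (IrrCharacter G)}
    {D : Subgroup G} {c : Blk M (Subgroup.centralizer (D : Set G))}
    (hm : IsMaximalBrauerPair p M B D c.1) (h4 : Nat.card D ≤ 4) {y : G}
    (hy : y ∈ stab (⟨D, c⟩ : PairIdx M G)) (hyC : y ∉ Subgroup.centralizer (D : Set G)) :
    3 ≤ Nat.card D := by
  classical
  set act : G → G → G := fun z v => z * v * z⁻¹
  have hmove : ∀ v ∈ D, v ≠ 1 → act y v ≠ v := fun v hv hv1 h =>
    hyC (mem_centralizer_of_fix hm h4 hv hv1 hy h)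
  have hmemD : ∀ z ∈ stab (⟨D, c⟩ : PairIdx M G), ∀ v ∈ D, act z v ∈ D := fun z hz v hv =>
    ((Subgroup.mem_normalizer_iff.1 hz.1) v).1 hv
  set F := Finset.univ.filter (· ∈ D)
  have hF : F.card = Nat.card D := by
    rw [Nat.card_eq_fintype_card, Fintype.card_subtype]
  obtain ⟨u0, hu0, hu01⟩ : ∃ u0 ∈ D, u0 ≠ 1 := by
    by_contra! hcon
    exact hyC (Subgroup.mem_centralizer_iff.2 fun v hv => by rw [hcon v hv]; group)
  exact (by
    have hu'1 : act y u0 ≠ 1 := fun h => hu01 (by simpa [act] using h)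
    have hsub : ({1, u0, act y u0} : Finset G) ⊆ F := by
      intro a ha
      simp only [Finset.mem_insert, Finset.mem_singleton] at ha
      rcases ha with rfl | rfl | rfl
      · simp [F, D.one_mem]
      · simp [F, hu0]
      · simp [F, hmemD y hy u0 hu0]
    rw [← hF]
    refine le_trans ?_ (Finset.card_le_card hsub)
    simp [Ne.symm hu01, Ne.symm hu'1, Ne.symm (hmove u0 hu0 hu01)])

/-- A block of rank one with as many members as a defect group of order at most four has
elements is nilpotent. -/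
theorem isNilpotentBlock_of_small (hM : IsPModular p M) {B : Set (IrrCharacter G)}
    (hB : IsPBlock M B) {D : Subgroup G} (hD : IsDefectGroup p M B D) (h4 : Nat.card D ≤ 4)
    (hk : Nat.card B = Nat.card D) (hl : blockRank p B = 1) : IsNilpotentBlock p M B := by
  haveI : Fact p.Prime := ⟨hM.1⟩
  haveI := Block.charP_resF hM
  obtain ⟨c, hmax⟩ := exists_maxPair_of_isDef (S := pairSys M G)
    (isDef_of_isDefectGroup (B := (⟨B, hB⟩ : Blk M G)) hD)
  have hm : IsMaximalBrauerPair p M B D c.1 :=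
    (isMaximalBrauerPair_iff (⟨B, hB⟩ : Blk M G) ⟨D, c⟩).2 hmax
  rw [isNilpotentBlock_iff_abelian hm (commute_of_card_le_four hm.1.1.1 h4)]
  intro y hy
  by_contra hyC
  have h1 := card_le_blockRank_add_one hM hB hmax h4 hy hyC
  have h2 := three_le_card hm h4 hy hyC
  omega

end Cfsg.Agent.Brauer.SmallDefect
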