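import Cfsg.Agent.Brauer.RankOneNilpotent
import Cfsg.Agent.BlkChar.ContribBounds
import Cfsg.Agent.BlkChar.Major
import Cfsg.Agent.BlockCover.PrincipalType
import Cfsg.Agent.BrauerPairs.BrauerFeit
import Cfsg.Agent.S4648
import Cfsg.Agent.S4698
import Cfsg.Agent.S4733

/-!
# Blocks with a Klein four defect group

A nontrivial subsection has rank one and, all heights being zero, odd integral contributions; this
makes the number of characters even, hence four.
-/

set_option autoImplicit false
set_option linter.style.haveILetI false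

namespace Cfsg.Agent.Brauer.KleinBlock

open Cfsg Cfsg.Agent.BrauerPairs Cfsg.Agent.BlkChar.Contrib Cfsg.Agent.Block
open Cfsg.Agent.BlkChar.Cyclo
open scoped Classical

universe u

variable {G : Type u} [Group G] [Fintype G] {M : Ideal AlgInt}

/-- With all heights zero a subsection of rank one makes the number of characters even, unless
there is a single one. -/
theorem even_card_of_subsection (hM : IsPModular 2 M) {C : Subgroup G} [Fintype C] {u : G} {k : ℕ}
    (hS : IsSection 2 k u C) {B : Set (IrrCharacter G)} {b : Set (IrrCharacter C)}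
    (hind : IsInducedBlock M C b B) (hl : blockRank 2 b = 1)
    (hh : ∀ χ ∈ B, blockHeight 2 B (χ : G → ℂ) = 0) : Even (Nat.card B) ∨ Nat.card B = 1 := by
  haveI : Fact (Nat.Prime 2) := ⟨Nat.prime_two⟩
  haveI : M.IsPrime := isPrime_of_isPModular hM
  have hfilt : heightZero 2 B = Finset.univ.filter (· ∈ B) := by
    ext χ; simpa [heightZero] using hh χ
  have hcard : Nat.card B = (Finset.univ.filter (· ∈ B) : Finset (IrrCharacter G)).card := by
    rw [Nat.card_eq_fintype_card, Fintype.card_subtype]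
  have hpos : 1 ≤ Nat.card B := by
    obtain ⟨χ, hχ⟩ := pBlock_nonempty hind.2.1
    rw [hcard]
    exact Finset.card_pos.2 ⟨χ, by simpa using hχ⟩
  rcases Nat.eq_zero_or_pos (blockDefect 2 b) with h0 | h0
  · have h := sq_card_heightZero_le hS hM hind
    rw [hfilt, ← hcard, hl, h0] at h
    right
    norm_num at h
    nlinarith
  left
  have hj : IsUnit (1 : ZMod (2 ^ k)) := isUnit_one
  have htr := sum_cM_diag_block hS hM hind hj
  rw [hl, Nat.cast_one, mul_one] at htr
  set s : IrrCharacter G → ℤ := fun χ => ∑ d, coefA hS b χ χ d with hs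
  have hcong : ∀ χ : IrrCharacter G, MemLocalIdeal M (cM hS b χ χ 1 - (s χ : ℂ)) := by
    intro χ
    rw [cM_eq_cev, cev, hs, Int.cast_sum, ← Finset.sum_sub_distrib]
    refine memLocalIdeal_sum _ _ fun d _ => ?_
    rw [← mul_sub_one]
    exact memLocalIdeal_mul_left (intCast_mem (localRing M) _) (stdAddChar_sub_one_mem hM _)
  have hsum := memLocalIdeal_sum (M := M) (Finset.univ.filter (· ∈ B)) _ fun χ _ => hcong χ
  rw [Finset.sum_sub_distrib, htr, ← Int.cast_sum, ← Int.cast_natCast, ← Int.cast_sub,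
    memLocalIdeal_intCast_iff hM] at hsum
  have hodd : ∀ χ ∈ Finset.univ.filter (· ∈ B), s χ % 2 = 1 := fun χ hχ => by
    have hχB := (Finset.mem_filter.1 hχ).2
    have := not_dvd_sum_coefA hS hM hind hχB (hh χ hχB) hχB (hh χ hχB)
    show s χ % 2 = 1
    simp only [hs]
    omega
  rw [hcard, even_iff_two_dvd]
  have h2 : (∑ χ ∈ Finset.univ.filter (· ∈ B), s χ) % 2 =
      ((Finset.univ.filter (· ∈ B) : Finset (IrrCharacter G)).card : ℤ) % 2 := by
    rw [Finset.sum_int_mod, Finset.sum_congr rfl hodd, Finset.sum_const, nsmul_one]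
  have h3 : (2 : ℤ) ∣ ((2 ^ blockDefect 2 b : ℕ) : ℤ) := by
    exact_mod_cast dvd_pow_self 2 h0.ne'
  push_cast at hsum h3
  omega

theorem blockRank_pos {p : ℕ} [Fact p.Prime] [M.IsPrime] {B : Set (IrrCharacter G)} (hB : IsPBlock M B) :
    0 < blockRank p B := by
  obtain ⟨χ, hχ⟩ := Block.pBlock_nonempty (M := M) hB
  haveI : FiniteDimensional ℂ (Submodule.span ℂ
      ((fun χ : IrrCharacter G => pRegularPart p (χ : G → ℂ)) '' B)) :=
    FiniteDimensional.span_of_finite ℂ (Set.toFinite _)
  rw [blockRank]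
  refine Submodule.one_le_finrank_iff.2 fun hbot => ?_
  have hmem := Submodule.subset_span (R := ℂ)
    (Set.mem_image_of_mem (fun χ : IrrCharacter G => pRegularPart p (χ : G → ℂ)) hχ)
  rw [hbot, SetLike.mem_coe, Submodule.mem_bot] at hmem
  have h1 := congrFun hmem 1
  simp only [pRegularPart, IsPRegular, orderOf_one, Nat.dvd_one, (Fact.out : p.Prime).ne_one,
    not_false_eq_true, if_true, Pi.zero_apply] at h1
  exact Char.irr_one_ne_zero χ.2 h1

theorem blockRank_lt_card {p : ℕ} [Fact p.Prime] (hM : IsPModular p M)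
    {B : Set (IrrCharacter G)} (hB : IsPBlock M B) (hd : blockDefect p B ≠ 0) :
    blockRank p B < Nat.card B := by
  obtain ⟨h1, -, h3⟩ := S4733.result p M hM B hB
  exact lt_of_le_of_ne h1 fun h => hd (h3.2 h.symm)

/-- A block with a defect group of order four and a maximal pair has four characters. -/
theorem card_eq_four (hM : IsPModular 2 M) {B : Set (IrrCharacter G)} (hB : IsPBlock M B)
    {P : Subgroup G} (hPD : IsDefectGroup 2 M B P) (h4 : Nat.card P = 4) :
    Nat.card B = 4 := by
  haveI : Fact (Nat.Prime 2) := ⟨Nat.prime_two⟩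
  haveI : M.IsPrime := isPrime_of_isPModular hM
  haveI := Block.charP_resF hM
  have hd : blockDefect 2 B = 2 := by
    have h := BlockVal.card_defectGroup hM hB hPD
    rw [h4] at h
    exact (Nat.pow_right_injective le_rfl (show 2 ^ 2 = 2 ^ blockDefect 2 B by rw [← h])).symm
  have hle : Nat.card B ≤ 4 := by
    have := (S4698.result 2 M hM B hB 2 hd).1 le_rfl
    simpa using this
  have hh : ∀ χ ∈ B, blockHeight 2 B (χ : G → ℂ) = 0 := fun χ hχ => by
    by_contra hne
    have := BrauerPairs.height_le hM hB hχ hne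
    omega
  set B' : Blk M G := ⟨B, hB⟩
  have hDef : IsDef (blockSysTop M) 2 B' P := isDef_of_isDefectGroup hPD
  obtain ⟨c, hmax⟩ := exists_maxPair_of_isDef (S := pairSys M G) hDef
  have h4all : ∀ Q : Subgroup G, IsDef (blockSysTop M) 2 B' Q → Nat.card Q ≤ 4 := fun Q hQ => by
    obtain ⟨z, hz⟩ := hQ.exists_conj hDef
    rw [hz, Subgroup.card_map_of_injective (MulAut.conj z).injective] at h4
    omega
  obtain ⟨u, hu, hu1⟩ : ∃ u ∈ P, u ≠ 1 := by
    rcases P.bot_or_exists_ne_one with h | h
    · rw [h, Subgroup.card_bot] at h4; norm_num at h4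
    · exact h
  have hP : IsPGroup 2 P := IsPGroup.of_card (n := 2) (by rw [h4]; norm_num)
  obtain ⟨f, hf, -⟩ := existsUnique_sle (S := pairSys M G) (b := ⟨P, c⟩) hP
    (Subgroup.zpowers_le.2 hu : Subgroup.zpowers u ≤ P)
  have hpair : PairOf (blockSysTop M) (pairSys M G) 2 B' ⟨Subgroup.zpowers u, f⟩ :=
    hf.pairOf_iff.1 hmax.1
  have hlf : blockRank 2 f.1 = 1 := SmallDefect.blockRank_eq_one_of_pair hM hu1 f hpair h4all
  have hind : IsInducedBlock M (Subgroup.centralizer (Subgroup.zpowers u : Set G)) f.1 B :=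
    (BlockCover.isInducedBlock_iff_pairOf (hP.to_le (Subgroup.zpowers_le.2 hu)) f B').2 hpair
  obtain ⟨k, hk⟩ : ∃ k, orderOf u = 2 ^ k := by
    obtain ⟨k, hk⟩ := hP ⟨u, hu⟩
    obtain ⟨i, -, hi⟩ := (Nat.dvd_prime_pow Nat.prime_two).1 (orderOf_dvd_of_pow_eq_one hk)
    exact ⟨i, (Subgroup.orderOf_mk u hu).symm.trans hi⟩
  have hS : IsSection 2 k u (Subgroup.centralizer (Subgroup.zpowers u : Set G)) := by
    refine ⟨fun g => ?_, by rw [← hk, pow_orderOf_eq_one]⟩
    rw [Brauer.centralizer_zpowers_eq, Subgroup.mem_centralizer_singleton_iff]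
  haveI := Fintype.ofFinite (Subgroup.centralizer (Subgroup.zpowers u : Set G))
  -- the subsection takes one unit of the count
  have hlt : blockRank 2 B < Nat.card B := blockRank_lt_card hM hB (by omega)
  have hpos : 0 < blockRank 2 B := blockRank_pos hB
  have hne2 : Nat.card B ≠ 2 := fun h2 => by
    have := (S4648.result 2 M hM B hB P hPD (fun hb => by rw [hb, Subgroup.card_bot] at h4; omega)
      (by omega) (by omega)).2.1
    omega
  rcases even_card_of_subsection hM hS hind hlf hh with he | he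
  · obtain ⟨m, hm⟩ := he
    omega
  · omega

end Cfsg.Agent.Brauer.KleinBlock
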