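import Mathlib.Algebra.MonoidAlgebra.Module
import Mathlib.Algebra.MonoidAlgebra.Basic
import Mathlib.Algebra.CharP.Lemmas
import Mathlib.Algebra.CharP.Reduced
import Mathlib.GroupTheory.PGroup
import Mathlib.GroupTheory.OrderOfElement
import Mathlib.Data.ZMod.Basic
import Mathlib.Data.Fintype.BigOperators
import Cfsg.Agent.BrauerPairs.BrauerMap

/-!
# Frobenius on the commutator quotient of a group algebra in characteristic `p`

For a conjugation invariant set `C`, the total of the coefficients of `x ^ p` over `C` is the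
`p`-th power of the total of those of `x` over `{g | g ^ p ∈ C}`.  Consequences: the section
identities used for Külshammer's formula.
-/

namespace Cfsg.Agent.Brauer

open MonoidAlgebra

variable {G k : Type*} [Group G] [Fintype G]

/-- The total of the coefficients of `x` over the set `C`. -/
noncomputable def setTot [Semiring k] (C : Set G) (x : MonoidAlgebra k G) : k :=
  ∑ g, C.indicator (fun g => x.coeff g) g

theorem sum_single_coeff [Semiring k] (x : MonoidAlgebra k G) :
    ∑ g, single g (x.coeff g) = x := by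
  classical
  ext h
  simp [coeff_sum, Finsupp.single_apply]

theorem pow_eq_sum_tuples [CommSemiring k] (x : MonoidAlgebra k G) (n : ℕ) :
    x ^ n = ∑ v : Fin n → G, single (List.ofFn v).prod (∏ i, x.coeff (v i)) := by
  induction n with
  | zero => simp [one_def]
  | succ n ih =>
    rw [pow_succ', ih]
    conv_lhs => arg 1; rw [← sum_single_coeff x]
    rw [Finset.sum_mul_sum, ← Finset.sum_product']
    refine Fintype.sum_equiv (Fin.consEquiv fun _ => G) _ _ fun t => ?_
    simp [single_mul_single, Fin.prod_univ_succ, List.ofFn_succ, Fin.consEquiv]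

theorem setTot_pow_prime [CommRing k] {p : ℕ} [Fact p.Prime] [CharP k p] (C : Set G)
    (hC : ∀ g h : G, g ∈ C → h * g * h⁻¹ ∈ C) (x : MonoidAlgebra k G) :
    setTot C (x ^ p) = (setTot {g | g ^ p ∈ C} x) ^ p := by
  classical
  haveI : NeZero p := ⟨(Fact.out : p.Prime).ne_zero⟩
  let pr : (ZMod p → G) → G := fun v => ((List.range p).map fun i : ℕ => v i).prod
  have h1 : setTot C (x ^ p) = ∑ v : ZMod p → G, if pr v ∈ C then ∏ i, x.coeff (v i) else 0 := by
    rw [pow_eq_sum_tuples]
    simp only [setTot, coeff_sum, Finsupp.coe_finsetSum, Finset.sum_apply, coeff_single,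
      Set.indicator_apply]
    simp_rw [← Finset.sum_filter]
    rw [Finset.sum_comm, Finset.sum_filter]
    have key : ∀ v : Fin p → G,
        (∑ g ∈ Finset.univ.filter (· ∈ C), Finsupp.single (List.ofFn v).prod
          (∏ i, x.coeff (v i)) g) = if (List.ofFn v).prod ∈ C then ∏ i, x.coeff (v i) else 0 := by
      intro v
      simp [Finsupp.single_apply]
    simp only [key]
    let e : Fin p ≃ ZMod p := (ZMod.finEquiv p).toEquiv
    have he : ∀ i : Fin p, e i = ((i : ℕ) : ZMod p) := by
      intro i
      obtain ⟨n, rfl⟩ : ∃ n, p = n + 1 :=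
        ⟨p - 1, (Nat.succ_pred_eq_of_pos (Fact.out : p.Prime).pos).symm⟩
      exact (Fin.cast_val_eq_self i).symm
    refine Fintype.sum_equiv (e.arrowCongr (Equiv.refl G)) _ _ fun v => ?_
    have hpr : pr (e.arrowCongr (Equiv.refl G) v) = (List.ofFn v).prod := by
      have : v = fun i : Fin p => e.arrowCongr (Equiv.refl G) v ((i : ℕ) : ZMod p) := by
        funext i; simp [← he]
      conv_rhs => rw [this, List.ofFn_eq_map]
      simp only [pr, ← List.map_coe_finRange_eq_range, List.map_map, Function.comp_def]
    rw [hpr]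
    congr 1
    exact Fintype.prod_equiv e _ _ (fun i => by simp)
  letI : MulAction (Multiplicative (ZMod p)) (ZMod p → G) :=
    { smul := fun u v i => v (i + u.toAdd)
      one_smul := fun v => funext fun i => congrArg v (by simp)
      mul_smul := fun u w v => funext fun i => congrArg v (by simp [add_assoc]) }
  have hsmul : ∀ (u : Multiplicative (ZMod p)) (v : ZMod p → G) (i : ZMod p),
      (u • v) i = v (i + u.toAdd) := fun _ _ _ => rfl
  have hrot : ∀ v : ZMod p → G, pr (fun i => v (i + 1)) = (v 0)⁻¹ * pr v * v 0 := by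
    intro v
    have a := congrArg List.prod (congrArg (List.map fun i : ℕ => v i)
      (List.range_succ (n := p)))
    have b := congrArg List.prod (congrArg (List.map fun i : ℕ => v i)
      (List.range_succ_eq_map (n := p)))
    rw [a] at b
    simp only [List.map_append, List.prod_append, List.map_cons, List.map_nil, List.prod_cons,
      List.prod_nil, mul_one, List.map_map, ZMod.natCast_self, Nat.cast_zero] at b
    rw [mul_assoc, eq_inv_mul_iff_mul_eq, b]
    simp only [pr, Function.comp_def, Nat.succ_eq_add_one, Nat.cast_add, Nat.cast_one]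
  have hinv : ∀ (u : Multiplicative (ZMod p)) (v : ZMod p → G),
      (pr (u • v) ∈ C ↔ pr v ∈ C) := by
    intro u v
    obtain ⟨m, hm⟩ : ∃ m : ℕ, (m : ZMod p) = u.toAdd := ⟨_, ZMod.natCast_zmod_val _⟩
    suffices ∀ (m : ℕ) (v : ZMod p → G), (pr (fun i => v (i + (m : ZMod p))) ∈ C ↔ pr v ∈ C) by
      have h := this m v
      rw [hm] at h
      exact h
    intro m
    induction m with
    | zero => intro v; simp
    | succ m ih =>
      intro v
      have hs : (fun i => v (i + ((m + 1 : ℕ) : ZMod p)))
          = fun i => (fun j => v (j + 1)) (i + (m : ZMod p)) := by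
        funext i; push_cast; rw [add_assoc]
      rw [hs, ih (fun j => v (j + 1)), hrot]
      constructor
      · intro h
        simpa [mul_assoc] using hC _ (v 0) h
      · intro h
        simpa using hC _ (v 0)⁻¹ h
  rw [h1, BrauerPairs.sum_eq_sum_fixedPoints (p := p) (P := Multiplicative (ZMod p))
    (fun a : k => by simp) (IsPGroup.of_card (n := 1) (by simp [Nat.card_zmod]))]
  · have hconst : Finset.univ.filter (· ∈ MulAction.fixedPoints (Multiplicative (ZMod p))
        (ZMod p → G)) = Finset.univ.image (fun g : G => fun _ : ZMod p => g) := by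
      ext v
      simp only [Finset.mem_filter, Finset.mem_univ, true_and, MulAction.mem_fixedPoints,
        Finset.mem_image]
      constructor
      · intro h
        refine ⟨v 0, funext fun i => ?_⟩
        have := congrFun (h (Multiplicative.ofAdd i)) 0
        rw [hsmul] at this
        simpa using this.symm
      · rintro ⟨g, rfl⟩ u; rfl
    rw [hconst, Finset.sum_image (fun a _ b _ h => congrFun h 0)]
    rw [setTot, sum_pow_char p]
    refine Finset.sum_congr rfl fun g _ => ?_
    have : pr (fun _ => g) = g ^ p := by simp [pr]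
    rw [this]
    by_cases hg : g ^ p ∈ C
    · simp [hg, Finset.prod_const, ZMod.card]
    · simp [hg, (Fact.out : p.Prime).ne_zero]
  · intro u v
    simp only [hinv u v]
    congr 1
    exact Fintype.prod_equiv (Equiv.addRight u.toAdd) _ _ (fun i => rfl)

theorem setTot_pow_prime_pow [CommRing k] {p : ℕ} [Fact p.Prime] [CharP k p] (n : ℕ) :
    ∀ (C : Set G), (∀ g h : G, g ∈ C → h * g * h⁻¹ ∈ C) → ∀ x : MonoidAlgebra k G,
    setTot C (x ^ p ^ n) = (setTot {g | g ^ p ^ n ∈ C} x) ^ p ^ n := by
  induction n with
  | zero => intro C _ x; simp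
  | succ n ih =>
    intro C hC x
    rw [pow_succ, pow_mul, setTot_pow_prime C hC, ih {g | g ^ p ∈ C}
      (fun g h hg => by simpa [conj_pow] using hC _ h hg), ← pow_mul]
    simp [← pow_mul]

/-- Section identity: if `x` commutes with `g`, the total of `x` over `{u g | u ^ q = 1}`,
raised to the power `q`, is the coefficient of `g ^ q` in `x ^ q`. -/
theorem sectionTot_pow [CommRing k] {p : ℕ} [Fact p.Prime] [CharP k p] (n : ℕ) (g : G)
    (x : MonoidAlgebra k G) (hx : Commute x (single g 1)) :
    (∑ u, ({u : G | u ^ p ^ n = 1}).indicator (fun u => x.coeff (u * g)) u) ^ p ^ n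
      = (x ^ p ^ n).coeff (g ^ p ^ n) := by
  classical
  set q := p ^ n with hq
  have hgi : Commute x (single g⁻¹ 1 : MonoidAlgebra k G) := by
    let U : (MonoidAlgebra k G)ˣ := ⟨single g 1, single g⁻¹ 1,
      by simp [single_mul_single, one_def], by simp [single_mul_single, one_def]⟩
    exact Commute.units_inv_right (u := U) hx
  have hcoef : ∀ (y : MonoidAlgebra k G) (h u : G),
      (y * single h⁻¹ 1).coeff u = y.coeff (u * h) := by
    intro y h u
    rw [BrauerPairs.coeff_mul_sum, Finset.sum_eq_single (u * h)]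
    · simp [coeff_single]
    · intro b _ hb
      have : b⁻¹ * u ≠ h⁻¹ := fun e => hb (by
        have : u = b * h⁻¹ := by rw [← e]; group
        rw [this]; group)
      simp [coeff_single, Finsupp.single_apply, this.symm]
    · simp
  have key := setTot_pow_prime_pow (k := k) n ({1} : Set G)
    (fun a h ha => by simp_all) (x * single g⁻¹ 1)
  rw [← hq] at key
  have hl : setTot ({1} : Set G) ((x * single g⁻¹ 1) ^ q) = (x ^ q).coeff (g ^ q) := by
    rw [setTot, Finset.sum_eq_single 1]
    · rw [hgi.mul_pow, single_pow, one_pow, inv_pow,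
        Set.indicator_of_mem (Set.mem_singleton _), hcoef, one_mul]
    · intro b _ hb; simp [hb]
    · simp
  rw [hl] at key
  rw [key, setTot]
  simp only [hcoef, Set.mem_singleton_iff]

/-- For an idempotent commuting with `g`, `g ^ q = g`: the coefficient at `g` is fixed by `q`. -/
theorem coeff_pow_eq_self [CommRing k] [IsDomain k] {p : ℕ} [Fact p.Prime] [CharP k p] (n : ℕ)
    (g : G) (e : MonoidAlgebra k G) (he : e * e = e) (hx : Commute e (single g 1))
    (hg : g ^ p ^ n = g) (hbig : ∀ u : G, u ^ p ^ (n + n) = 1 → u ^ p ^ n = 1) :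
    e.coeff g ^ p ^ n = e.coeff g ∧
      ∑ u, ({u : G | u ^ p ^ n = 1}).indicator (fun u => e.coeff (u * g)) u = e.coeff g := by
  have hidem : ∀ m : ℕ, e ^ p ^ m = e := fun m => by
    obtain ⟨r, hr⟩ := Nat.exists_eq_succ_of_ne_zero (pow_ne_zero m (Fact.out : p.Prime).ne_zero)
    rw [hr, IsIdempotentElem.pow_succ_eq r he]
  have h1 := sectionTot_pow n g e hx
  have h2 := sectionTot_pow (n + n) g e hx
  have hset : {u : G | u ^ p ^ (n + n) = 1} = {u : G | u ^ p ^ n = 1} := by
    ext u
    exact ⟨hbig u, fun h => by rw [Set.mem_setOf_eq] at h ⊢; rw [pow_add, pow_mul, h, one_pow]⟩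
  rw [hidem, hg] at h1
  rw [hidem, hset, pow_add, pow_mul, pow_mul, hg, hg, h1] at h2
  refine ⟨h2, ?_⟩
  have h3 : (∑ u, ({u : G | u ^ p ^ n = 1}).indicator (fun u => e.coeff (u * g)) u) ^ p ^ n
      = e.coeff g ^ p ^ n := by rw [h1, h2]
  exact iterateFrobenius_inj k p n h3

/-- For a nilpotent element commuting with `g` the section totals vanish. -/
theorem sectionTot_eq_zero_of_isNilpotent [CommRing k] [IsDomain k] {p : ℕ} [Fact p.Prime]
    [CharP k p] (g : G) (x : MonoidAlgebra k G) (hx : Commute x (single g 1))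
    (hnil : IsNilpotent x) (n : ℕ) (hbig : ∀ m, n ≤ m → ∀ u : G, u ^ p ^ m = 1 → u ^ p ^ n = 1) :
    ∑ u, ({u : G | u ^ p ^ n = 1}).indicator (fun u => x.coeff (u * g)) u = 0 := by
  obtain ⟨N, hN⟩ := hnil
  set m := n + N with hm
  have hpos : N ≤ p ^ m :=
    le_trans (Nat.le_add_left N n) (le_of_lt (Nat.lt_pow_self (Fact.out : p.Prime).one_lt))
  have h0 : x ^ p ^ m = 0 := pow_eq_zero_of_le hpos hN
  have h1 := sectionTot_pow m g x hx
  have hset : {u : G | u ^ p ^ m = 1} = {u : G | u ^ p ^ n = 1} := by
    ext u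
    exact ⟨hbig m (Nat.le_add_right n N) u, fun h => by
      rw [Set.mem_setOf_eq] at h ⊢; rw [hm, pow_add, pow_mul, h, one_pow]⟩
  rw [hset, h0] at h1
  simp only [coeff_zero, Finsupp.coe_zero, Pi.zero_apply] at h1
  exact eq_zero_of_pow_eq_zero h1

end Cfsg.Agent.Brauer
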