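import Cfsg.Agent.Brauer.Transport
import Cfsg.Agent.BlockVal.CoveringAll
import Cfsg.Agent.CharDeep.Mult
import Cfsg.Agent.CharDeep.BrauerInduction
import Cfsg.Agent.CharExt.Gallagher
import Cfsg.Agent.Char.Linear

/-!
# Restriction of the principal block to a normal subgroup of `p'`-index (Alperin, Dade)

If every coset of the normal subgroup `N` of index prime to `p` contains an element centralizing a
Sylow `p`-subgroup, restriction is a bijection between the principal blocks.
-/

set_option linter.style.haveILetI false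
set_option maxHeartbeats 800000

namespace Cfsg.Agent.Brauer.PrincipalRes

open Cfsg
open Cfsg.Agent.Block
open scoped ComplexConjugate commutatorElement

universe u

variable {G : Type u} [Group G] [Fintype G] {p : ℕ} {M : Ideal AlgInt}

variable (p M) in
/-- The central character congruences of the principal block at classes of `p'`-length. -/
def Normed (χ : G → ℂ) : Prop :=
  ∀ v : G, ¬ p ∣ (Subgroup.centralizer ({v} : Set G)).index → MemLocalIdeal M (χ v / χ 1 - 1)

variable (p) in
/-- Every coset of `N` meets a class of `p'`-length, and the index is prime to `p`. -/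
def Cover (N : Subgroup G) : Prop :=
  ¬ p ∣ N.index ∧ ∀ g : G, ∃ n ∈ N, ¬ p ∣ (Subgroup.centralizer ({n * g} : Set G)).index

theorem normed_of_mem (hM : IsPModular p M) {χ : IrrCharacter G} (hχ : χ ∈ principalBlock M G) :
    Normed p M (χ : G → ℂ) := by
  haveI : M.IsPrime := hM.2.1.isPrime
  intro v hv
  have h : MemLocalIdeal M
      (centralChar (fun _ : G => (1 : ℂ)) v - centralChar (χ : G → ℂ) v) := hχ v
  rw [centralChar_one_fun, centralChar] at h
  have h2 := memLocalIdeal_mul_left (memLocalRing_natCast_inv hM hv) (memLocalIdeal_neg h)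
  have e : ((Subgroup.centralizer ({v} : Set G)).index : ℂ) ≠ 0 :=
    Nat.cast_ne_zero.2 Subgroup.index_ne_zero_of_finite
  convert h2 using 1
  field_simp [Char.irr_one_ne_zero χ.2]
  ring

/-- Summing over cosets. -/
theorem sum_eq_sum_quotient (N : Subgroup G) [N.Normal] [Fintype N] [Fintype (G ⧸ N)]
    (f : G → ℂ) : ∑ g : G, f g = ∑ q : G ⧸ N, ∑ n : N, f ((n : G) * q.out) := by
  classical
  rw [← Finset.sum_fiberwise (Finset.univ : Finset G) (fun g : G => (g : G ⧸ N))]
  refine Finset.sum_congr rfl fun q _ => ?_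
  refine Finset.sum_bij' (fun g hg => (⟨g * q.out⁻¹, ?_⟩ : N))
    (fun n _ => (n : G) * q.out) (fun _ _ => Finset.mem_univ _) (fun n _ => ?_)
    (fun g _ => by simp) (fun n _ => Subtype.ext (by simp)) (fun g _ => by simp)
  · rw [← QuotientGroup.eq_one_iff, QuotientGroup.mk_mul, QuotientGroup.mk_inv,
      QuotientGroup.out_eq', (Finset.mem_filter.1 hg).2, mul_inv_cancel]
  · rw [Finset.mem_filter]
    exact ⟨Finset.mem_univ _, by rw [QuotientGroup.mk_mul, (QuotientGroup.eq_one_iff _).2 n.2,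
      one_mul, QuotientGroup.out_eq']⟩

/-- A twist preserving the congruences is trivial. -/
theorem twist_trivial (hM : IsPModular p M) {N : Subgroup G} [N.Normal] (hN : Cover p N)
    {χ χ' β : G → ℂ} (hχ : IsIrrCharacter G χ) (hn : Normed p M χ) (hn' : Normed p M χ')
    (hβ : IsIrrCharacter G β) (hinv : ∀ (n : N) g, β ((n : G) * g) = β g) (he : χ' = β * χ) :
    β = fun _ => 1 := by
  classical
  haveI : M.IsPrime := hM.2.1.isPrime
  haveI := Fintype.ofFinite (G ⧸ N)
  by_contra hne
  have hβ1 := Char.irr_one_ne_zero hβ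
  have hχ1 := Char.irr_one_ne_zero hχ
  have hcong : ∀ g, MemLocalIdeal M (β g - β 1) := by
    intro g
    obtain ⟨n, hnN, hn0⟩ := hN.2 g
    have h1 := memLocalIdeal_mul_left (char_memLocalRing (M := M) hβ 1) (hn' _ hn0)
    have h2 := memLocalIdeal_mul_left (char_memLocalRing (M := M) hβ g) (hn _ hn0)
    have h3 := memLocalIdeal_sub h1 h2
    rw [he, Pi.mul_apply, Pi.mul_apply, hinv ⟨n, hnN⟩ g] at h3
    convert h3 using 1
    field_simp
    ring
  have hsum : ∑ g : G, β g = 0 := by
    have h := CharInd.classInner_irr_ne hβ CharInd.irr_one_const hne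
    simp only [classInner, map_one, mul_one, mul_eq_zero, inv_eq_zero, Nat.cast_eq_zero] at h
    exact h.resolve_left Nat.card_pos.ne'
  have hsq : ∑ g : G, β g * β g⁻¹ = Nat.card G := by
    have h := CharInd.classInner_irr_self hβ
    simp only [classInner, inv_mul_eq_iff_eq_mul₀ (show (Nat.card G : ℂ) ≠ 0 from Nat.cast_ne_zero.2 Nat.card_pos.ne'),
      mul_one] at h
    rw [← h]
    exact Finset.sum_congr rfl fun g _ => by rw [Char.irr_inv hβ]
  have hinv' : ∀ (n : N) g, β ((n : G) * g)⁻¹ = β g⁻¹ := by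
    intro n g
    rw [Char.irr_inv hβ, Char.irr_inv hβ, hinv]
  rw [sum_eq_sum_quotient N] at hsum hsq
  simp only [hinv, hinv', Finset.sum_const, Finset.card_univ, nsmul_eq_mul, ← Finset.mul_sum,
    ← Nat.card_eq_fintype_card] at hsum hsq
  rw [mul_eq_zero, or_iff_right (Nat.cast_ne_zero.2 Nat.card_pos.ne')] at hsum
  rw [← Subgroup.card_mul_index N, Nat.cast_mul,
    mul_right_inj' (Nat.cast_ne_zero.2 Nat.card_pos.ne')] at hsq
  have hidx : (Finset.univ : Finset (G ⧸ N)).card = N.index := by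
    rw [Finset.card_univ, Subgroup.index, Nat.card_eq_fintype_card]
  have hb : MemLocalIdeal M (β 1) := by
    have h : MemLocalIdeal M (∑ q : G ⧸ N, (β q.out - β 1)) :=
      memLocalIdeal_sum _ _ fun q _ => hcong _
    rw [Finset.sum_sub_distrib, hsum, zero_sub, Finset.sum_const, hidx, nsmul_eq_mul] at h
    have h' := memLocalIdeal_mul_left (memLocalRing_natCast_inv hM hN.1) (memLocalIdeal_neg h)
    rwa [neg_neg, inv_mul_cancel_left₀ (Nat.cast_ne_zero.2 Subgroup.index_ne_zero_of_finite)] at h'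
  have hi : MemLocalIdeal M ((N.index : ℂ)) := by
    rw [← hsq]
    refine memLocalIdeal_sum _ _ fun q _ => memLocalIdeal_mul_left (char_memLocalRing hβ _) ?_
    simpa using memLocalIdeal_add (hcong q.out⁻¹) hb
  exact hN.1 ((memLocalIdeal_natCast_iff hM _).1 hi)

/-- Extensions satisfying the congruences are unique. -/
theorem eq_of_restrict_eq (hM : IsPModular p M) {N : Subgroup G} [N.Normal] [Fintype N] (hN : Cover p N)
    {χ χ' : G → ℂ} (hχ : IsIrrCharacter G χ) (hχ' : IsIrrCharacter G χ')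
    (hn : Normed p M χ) (hn' : Normed p M χ') (hres : IsIrrCharacter N (fun n : N => χ n))
    (hinner : classInner (fun n : N => χ' n) (fun n : N => χ n) ≠ 0) : χ' = χ := by
  obtain ⟨β, hβ, hinv, he⟩ := CharDeep.exists_factor N hχ hres hχ' hinner
  rw [he, twist_trivial hM hN hχ hn hn' hβ hinv he]
  funext g; simp

/-- The principal block as the block of the trivial character. -/
theorem isPBlock_principal : IsPBlock M (principalBlock M G) :=
  ⟨⟨_, CharInd.irr_one_const⟩, rfl⟩

/-- Constituents of the principal block lie in the principal block. -/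
theorem constituent_mem (hM : IsPModular p M) (N : Subgroup G) [N.Normal] [Fintype N]
    {χ : IrrCharacter G} (hχ : χ ∈ principalBlock M G) {η : IrrCharacter N}
    (hη : classInner (fun n : N => (χ : G → ℂ) n) (η : N → ℂ) ≠ 0) :
    η ∈ principalBlock M N := by
  haveI : M.IsPrime := hM.2.1.isPrime
  obtain ⟨one, hone⟩ : ∃ one : IrrCharacter G, (one : G → ℂ) = fun _ => 1 :=
    ⟨⟨_, CharInd.irr_one_const⟩, rfl⟩
  obtain ⟨oneN, honeN⟩ : ∃ one : IrrCharacter N, (one : N → ℂ) = fun _ => 1 :=
    ⟨⟨_, CharInd.irr_one_const⟩, rfl⟩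
  have hone' : one ∈ principalBlock M G := by
    change SameBlock M (fun _ : G => (1 : ℂ)) (one : G → ℂ)
    rw [hone]; exact sameBlock_refl _
  have honeN' : oneN ∈ principalBlock M N := by
    change SameBlock M (fun _ : N => (1 : ℂ)) (oneN : N → ℂ)
    rw [honeN]; exact sameBlock_refl _
  have h0 : classInner (fun n : N => (one : G → ℂ) n) (oneN : N → ℂ) ≠ 0 := by
    simp only [hone, honeN]
    rw [CharInd.classInner_irr_self CharInd.irr_one_const]
    exact one_ne_zero
  obtain ⟨x, hx, -⟩ := exists_constituent_mem_of_congr N hM (isPBlock_principal (G := N) (M := M))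
    honeN' χ
    (fun n => centralChar_congr_of_covers N hM (isPBlock_principal (G := G) (M := M))
      (isPBlock_principal (G := N) (M := M)) hone' honeN' h0 hχ honeN' n) hη
  have h := sameBlock_conjChar N (M := M) (θ := fun _ => (1 : ℂ))
    (η := CharInd.conjChar N x (η : N → ℂ))
    (show SameBlock M (fun _ : N => (1 : ℂ)) (conjIrr N x η : N → ℂ) from hx) x⁻¹
  rw [← CharInd.conjChar_mul, mul_inv_cancel, CharInd.conjChar_one] at h
  exact h

/-- Every member of the principal block of `N` lies below one of `G`. -/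
theorem exists_over (hM : IsPModular p M) (N : Subgroup G) [N.Normal] [Fintype N]
    {θ : IrrCharacter N} (hθ : θ ∈ principalBlock M N) :
    ∃ χ ∈ principalBlock M G, classInner (fun n : N => (χ : G → ℂ) n) (θ : N → ℂ) ≠ 0 := by
  haveI : M.IsPrime := hM.2.1.isPrime
  obtain ⟨oneN, honeN⟩ : ∃ one : IrrCharacter N, (one : N → ℂ) = fun _ => 1 :=
    ⟨⟨_, CharInd.irr_one_const⟩, rfl⟩
  obtain ⟨one, hone⟩ : ∃ one : IrrCharacter G, (one : G → ℂ) = fun _ => 1 :=
    ⟨⟨_, CharInd.irr_one_const⟩, rfl⟩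
  have hone' : one ∈ principalBlock M G := by
    change SameBlock M (fun _ : G => (1 : ℂ)) (one : G → ℂ)
    rw [hone]; exact sameBlock_refl _
  have honeN' : oneN ∈ principalBlock M N := by
    change SameBlock M (fun _ : N => (1 : ℂ)) (oneN : N → ℂ)
    rw [honeN]; exact sameBlock_refl _
  refine CoverAll.covers_all N (principalBlock M G) hM isPBlock_principal
    (isPBlock_principal (G := N) (M := M)) honeN' ⟨one, hone', ?_⟩ hθ
  simp only [hone, honeN]
  rw [CharInd.classInner_irr_self CharInd.irr_one_const]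
  exact one_ne_zero

theorem eq_of_inner_ne_zero (N : Subgroup G) [Fintype N] {f : N → ℂ} (hf : IsIrrCharacter N f)
    {θ : IrrCharacter N} (h : classInner f (θ : N → ℂ) ≠ 0) : f = θ := by
  by_contra hne
  exact h (CharInd.classInner_irr_ne hf θ.2 hne)

/-- The case of an abelian quotient. -/
theorem exists_ext_of_comm (hM : IsPModular p M) (N : Subgroup G) [N.Normal] [Fintype N]
    (hN : Cover p N) (hcomm : ∀ a b : G ⧸ N, a * b = b * a) {θ : IrrCharacter N}
    (hθ : θ ∈ principalBlock M N) :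
    ∃ χ ∈ principalBlock M G, (fun n : N => (χ : G → ℂ) n) = θ := by
  classical
  haveI : M.IsPrime := hM.2.1.isPrime
  obtain ⟨χ, hχ, hinner⟩ := exists_over hM N hθ
  refine ⟨χ, hχ, eq_of_inner_ne_zero N ?_ hinner⟩
  rw [Char.isIrrCharacter_iff_classInner]
  refine ⟨CharInd.isCharacter_res N (Char.isCharacter_of_irr χ.2), ?_⟩
  haveI := Fintype.ofFinite (G ⧸ N)
  have horth : ∀ x : G, ∑ β : IrrCharacter (G ⧸ N), (β : G ⧸ N → ℂ) (x : G ⧸ N)
      = if x ∈ N then (N.index : ℂ) else 0 := by
    intro x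
    have h := Char.sum_irr_mul_conj (x : G ⧸ N) 1
    simp only [Char.irr_degree_one_of_comm hcomm (Subtype.prop _), map_one, mul_one] at h
    rw [h]
    have hiff : IsConj (x : G ⧸ N) 1 ↔ x ∈ N := by
      rw [← QuotientGroup.eq_one_iff, isConj_one_left]
    by_cases hx : x ∈ N
    · rw [if_pos hx, if_pos (hiff.2 hx)]
      congr 1
      rw [Subgroup.index]
      exact Nat.card_congr (Equiv.subtypeUnivEquiv fun y => by
        rw [Subgroup.mem_centralizer_singleton_iff]; exact hcomm _ _)
    · rw [if_neg hx, if_neg (fun h' => hx (hiff.1 h'))]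
  have htwist : ∀ β : IrrCharacter (G ⧸ N),
      classInner (fun g : G => (β : G ⧸ N → ℂ) (g : G ⧸ N) * (χ : G → ℂ) g) (χ : G → ℂ)
        = if (β : G ⧸ N → ℂ) = (fun _ => 1) then 1 else 0 := by
    intro β
    split_ifs with hb
    · simp only [hb, one_mul]; exact CharInd.classInner_irr_self χ.2
    · obtain ⟨f, hf⟩ := Char.exists_monoidHom_of_degree_one (Char.isCharacter_of_irr β.2)
        (Char.irr_degree_one_of_comm hcomm β.2)
      refine CharInd.classInner_irr_ne ?_ χ.2 fun heq => hb ?_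
      · simp only [hf]
        exact Char.isIrrCharacter_mul_monoidHom χ.2 (f.comp (QuotientGroup.mk' N))
      · have hβ' : IsIrrCharacter G (fun g : G => (β : G ⧸ N → ℂ) (g : G ⧸ N)) :=
          Char.isIrrCharacter_comp β.2 (QuotientGroup.mk' N) (QuotientGroup.mk'_surjective N)
        have h1 := twist_trivial hM hN χ.2 (normed_of_mem hM hχ) (normed_of_mem hM hχ) hβ'
          (fun n g => by rw [QuotientGroup.mk_mul, (QuotientGroup.eq_one_iff _).2 n.2, one_mul])
          heq.symm
        funext q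
        obtain ⟨g, rfl⟩ := QuotientGroup.mk_surjective q
        exact congrFun h1 g
  have key : ∑ β : IrrCharacter (G ⧸ N),
      classInner (fun g : G => (β : G ⧸ N → ℂ) (g : G ⧸ N) * (χ : G → ℂ) g) (χ : G → ℂ) = 1 := by
    simp only [htwist]
    rw [Finset.sum_eq_single (⟨_, CharInd.irr_one_const⟩ : IrrCharacter (G ⧸ N))]
    · simp
    · intro β _ hb; rw [if_neg fun h => hb (Subtype.ext h)]
    · exact fun h => absurd (Finset.mem_univ _) h
  rw [← key]
  simp only [classInner, ← Finset.mul_sum]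
  rw [Finset.sum_comm]
  simp only [mul_assoc, ← Finset.sum_mul, horth, ite_mul, zero_mul]
  rw [← Finset.sum_filter, ← Finset.mul_sum]
  rw [Finset.sum_subtype (p := fun g : G => g ∈ N) (Finset.univ.filter fun g : G => g ∈ N)
    (fun g => by simp) (fun g : G => (χ : G → ℂ) g * conj ((χ : G → ℂ) g)), ← mul_assoc,
    ← Subgroup.card_mul_index N]
  push_cast
  have : (N.index : ℂ) ≠ 0 := Nat.cast_ne_zero.2 Subgroup.index_ne_zero_of_finite
  rw [mul_inv, mul_assoc (Nat.card N : ℂ)⁻¹, inv_mul_cancel₀ this, mul_one]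

section sub

variable {N L : Subgroup G}

omit [Fintype G] in
theorem index_centralizer_dvd {L : Subgroup G} (v : L) :
    (Subgroup.centralizer ({(v : G)} : Set G)).index ∣
      (Subgroup.centralizer ({v} : Set L)).index * L.index := by
  rw [← Subgroup.index_map_subtype]
  refine Subgroup.index_dvd_of_le ?_
  rintro _ ⟨c, hc, rfl⟩
  rw [SetLike.mem_coe, Subgroup.mem_centralizer_singleton_iff] at hc
  rw [Subgroup.mem_centralizer_singleton_iff]
  exact congrArg Subtype.val hc

theorem normed_restrict {L : Subgroup G} (hM : IsPModular p M) (hL : ¬ p ∣ L.index) {χ : G → ℂ}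
    (h : Normed p M χ) : Normed p M (fun x : L => χ x) := by
  intro v hv
  refine h _ fun hd => ?_
  rcases hM.1.dvd_mul.1 (hd.trans (index_centralizer_dvd v)) with h' | h'
  · exact hv h'
  · exact hL h'

theorem not_dvd_index_of_le (hN : Cover p N) (h : N ≤ L) : ¬ p ∣ L.index :=
  fun hd => hN.1 (hd.trans (Subgroup.index_dvd_of_le h))

theorem cover_subgroupOf (hM : IsPModular p M) [N.Normal] (hN : Cover p N) (h : N ≤ L) :
    Cover p (N.subgroupOf L) := by
  refine ⟨fun hd => hN.1 (hd.trans (Subgroup.relIndex_dvd_index_of_normal N L)), fun g => ?_⟩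
  obtain ⟨n, hn, hv⟩ := hN.2 g
  refine ⟨⟨n, h hn⟩, hn, fun hd => ?_⟩
  have hK : ¬ p ∣ (Subgroup.centralizer ({n * (g : G)} : Set G) ⊓ N).index := by
    intro hd'
    rw [← Subgroup.relIndex_mul_index (inf_le_left :
      Subgroup.centralizer ({n * (g : G)} : Set G) ⊓ N ≤ _), Subgroup.inf_relIndex_left] at hd'
    rcases hM.1.dvd_mul.1 hd' with h' | h'
    · exact hN.1 (h'.trans (Subgroup.relIndex_dvd_index_of_normal N _))
    · exact hv h'
  refine hK (hd.trans ?_)
  have hKL : Subgroup.centralizer ({n * (g : G)} : Set G) ⊓ N ≤ L := inf_le_right.trans h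
  rw [← Subgroup.relIndex_mul_index hKL]
  refine dvd_mul_of_dvd_left (Subgroup.index_dvd_of_le ?_) _
  intro c hc
  rw [Subgroup.mem_centralizer_singleton_iff]
  exact Subtype.ext (Subgroup.mem_centralizer_singleton_iff.1 hc.1)

theorem mem_principal_comp {H K : Type*} [Group H] [Group K] [Finite H] [Finite K] (e : H ≃* K)
    {χ : IrrCharacter K} (h : χ ∈ principalBlock M K) : irrComp e χ ∈ principalBlock M H := by
  show SameBlock M _ _
  rw [coe_irrComp]
  exact (sameBlock_comp_equiv_iff e).2 (h : SameBlock M (fun _ : K => (1 : ℂ)) (χ : K → ℂ))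

/-- Extensions exist along solvable quotients. -/
theorem exists_ext_solvable (hM : IsPModular p M) (N : Subgroup G) [N.Normal] (hN : Cover p N)
    {θ : IrrCharacter N} (hθ : θ ∈ principalBlock M N) (L : Subgroup G) (h : N ≤ L)
    (hs : Group.IsSolvable (L.map (QuotientGroup.mk' N))) :
    ∃ ξ ∈ principalBlock M L, ∀ n : N, (ξ : L → ℂ) ⟨n, h n.2⟩ = (θ : N → ℂ) n := by
  induction L using WellFoundedLT.induction with
  | _ L ih =>
  by_cases hb : L.map (QuotientGroup.mk' N) = ⊥
  · have hLN : L = N := le_antisymm (by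
      rw [Subgroup.map_eq_bot_iff, QuotientGroup.ker_mk'] at hb; exact hb) h
    subst hLN
    exact ⟨θ, hθ, fun n => rfl⟩
  have hlt : ⁅L, L⁆ ⊔ N < L := by
    refine lt_of_le_of_ne (sup_le (Subgroup.commutator_le_self L) h) fun he => ?_
    haveI := hs
    haveI : Nontrivial (L.map (QuotientGroup.mk' N)) := (Subgroup.nontrivial_iff_ne_bot _).2 hb
    apply (Group.IsSolvable.commutator_lt_top_of_nontrivial
      (L.map (QuotientGroup.mk' N))).ne
    have h1 := congrArg (Subgroup.map (QuotientGroup.mk' N)) he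
    rw [Subgroup.map_sup, QuotientGroup.map_mk'_self, sup_bot_eq, Subgroup.map_commutator] at h1
    refine Subgroup.map_injective (L.map (QuotientGroup.mk' N)).subtype_injective ?_
    rw [Subgroup.map_subtype_commutator, h1, ← MonoidHom.range_eq_map, Subgroup.range_subtype]
  obtain ⟨η, hη, hηθ⟩ := ih _ hlt le_sup_right
    (Group.isSolvable_of_isSolvable_injective (Subgroup.inclusion_injective
      (Subgroup.map_mono hlt.le) : Function.Injective (Subgroup.inclusion _)))
  obtain ⟨L', hL'⟩ : ∃ L', L' = ⁅L, L⁆ ⊔ N := ⟨_, rfl⟩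
  have hle : L' ≤ L := hL' ▸ hlt.le
  have hcomm' : ⁅(⊤ : Subgroup L), ⊤⁆ ≤ L'.subgroupOf L := by
    intro x hx
    have h1 : (x : G) ∈ Subgroup.map L.subtype ⁅(⊤ : Subgroup L), (⊤ : Subgroup L)⁆ := ⟨x, hx, rfl⟩
    rw [Subgroup.map_commutator, ← MonoidHom.range_eq_map, Subgroup.range_subtype] at h1
    exact Subgroup.mem_subgroupOf.2 (hL' ▸ Subgroup.mem_sup_left h1)
  haveI hn : (L'.subgroupOf L).Normal := ⟨fun x hx c => by
    have : c * x * c⁻¹ = (c * x * c⁻¹ * x⁻¹) * x := by group
    rw [this]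
    refine mul_mem (hcomm' ?_) hx
    exact Subgroup.commutator_mem_commutator (Subgroup.mem_top c) (Subgroup.mem_top x)⟩
  have hNL' : N ≤ L' := hL' ▸ le_sup_right
  have hcov : Cover p (L'.subgroupOf L) := by
    obtain ⟨h1, h2⟩ := cover_subgroupOf hM hN h
    have hle' : N.subgroupOf L ≤ L'.subgroupOf L := fun x hx => hNL' hx
    exact ⟨fun hd => h1 (hd.trans (Subgroup.index_dvd_of_le hle')), fun g =>
      let ⟨n, hn, hv⟩ := h2 g; ⟨n, hle' hn, hv⟩⟩
  subst hL'
  haveI := Fintype.ofFinite L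
  haveI := Fintype.ofFinite ((⁅L, L⁆ ⊔ N).subgroupOf L)
  obtain ⟨ξ, hξ, hξη⟩ := exists_ext_of_comm hM _ hcov (fun a b => by
      obtain ⟨a, rfl⟩ := QuotientGroup.mk_surjective a
      obtain ⟨b, rfl⟩ := QuotientGroup.mk_surjective b
      rw [← QuotientGroup.mk_mul, ← QuotientGroup.mk_mul, QuotientGroup.eq]
      refine hcomm' ?_
      have : (a * b)⁻¹ * (b * a) = ⁅b⁻¹, a⁻¹⁆ := by simp [commutatorElement_def, mul_assoc]
      rw [this]
      exact Subgroup.commutator_mem_commutator (Subgroup.mem_top _) (Subgroup.mem_top _))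
    (mem_principal_comp (Subgroup.subgroupOfEquivOfLe hle) hη)
  refine ⟨ξ, hξ, fun n => ?_⟩
  rw [← hηθ n]
  have := congrFun hξη ⟨⟨n, h n.2⟩, hNL' n.2⟩
  exact this

end sub

/-- Every member of the principal block of `N` extends to one of `G`. -/
theorem exists_ext (hM : IsPModular p M) (N : Subgroup G) [N.Normal] [Fintype N] (hN : Cover p N)
    {θ : IrrCharacter N} (hθ : θ ∈ principalBlock M N) :
    ∃ χ ∈ principalBlock M G, (fun n : N => (χ : G → ℂ) n) = θ := by
  classical
  haveI : M.IsPrime := hM.2.1.isPrime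
  choose ξ hξ hξθ using exists_ext_solvable hM N hN hθ
  have hJs : ∀ g : G, Group.IsSolvable
      ((N ⊔ Subgroup.zpowers g).map (QuotientGroup.mk' N)) := by
    intro g
    rw [Subgroup.map_sup, QuotientGroup.map_mk'_self, bot_sup_eq, MonoidHom.map_zpowers]
    exact Group.isSolvable_of_comm (by
      rintro ⟨a, i, rfl⟩ ⟨b, j, rfl⟩
      exact Subtype.ext ((Commute.refl _).zpow_zpow i j).eq)
  let χ₀ : G → ℂ := fun g => (ξ (N ⊔ Subgroup.zpowers g) le_sup_left (hJs g) :
    (N ⊔ Subgroup.zpowers g : Subgroup G) → ℂ) ⟨g, Subgroup.mem_sup_right (Subgroup.mem_zpowers g)⟩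
  have hirr : ∀ (L : Subgroup G) (h : N ≤ L) (hs), IsIrrCharacter (N.subgroupOf L)
      (fun n : N.subgroupOf L => (ξ L h hs : L → ℂ) n) := by
    intro L h hs
    convert Char.isIrrCharacter_comp_mulEquiv θ.2 (Subgroup.subgroupOfEquivOfLe h) using 1
    funext n
    exact hξθ L h hs (Subgroup.subgroupOfEquivOfLe h n)
  -- the compatibility
  have hind : ∀ (L : Subgroup G) (h : N ≤ L) (hs) (g : G) (hg : g ∈ L),
      (ξ L h hs : L → ℂ) ⟨g, hg⟩ = χ₀ g := by
    intro L h hs g hg
    have hJL : N ⊔ Subgroup.zpowers g ≤ L := sup_le h (by simpa using hg)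
    obtain ⟨f, hf⟩ : ∃ f : (N ⊔ Subgroup.zpowers g : Subgroup G) → ℂ,
      f = fun x => (ξ L h hs : L → ℂ) (Subgroup.inclusion hJL x) := ⟨_, rfl⟩
    have hfc : IsCharacter _ f :=
      hf ▸ Char.isCharacter_comp (Char.isCharacter_of_irr (ξ L h hs).2) (Subgroup.inclusion hJL)
    have hres : (fun n : N.subgroupOf (N ⊔ Subgroup.zpowers g) =>
        f (n : (N ⊔ Subgroup.zpowers g : Subgroup G))) =
        fun n : N.subgroupOf (N ⊔ Subgroup.zpowers g) =>
          (ξ (N ⊔ Subgroup.zpowers g) le_sup_left (hJs g) :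
            (N ⊔ Subgroup.zpowers g : Subgroup G) → ℂ) n := by
      funext n
      rw [hf]
      have e1 := hξθ L h hs ⟨_, n.2⟩
      have e2 := hξθ (N ⊔ Subgroup.zpowers g) le_sup_left (hJs g) ⟨_, n.2⟩
      exact e1.trans e2.symm
    have hfi : IsIrrCharacter _ f := CharDeep.isIrr_of_comp hfc
      (N.subgroupOf (N ⊔ Subgroup.zpowers g)).subtype (by
        exact (hres ▸ hirr _ _ _ : IsIrrCharacter _ (fun n : N.subgroupOf (N ⊔ Subgroup.zpowers g) => f (n : (N ⊔ Subgroup.zpowers g : Subgroup G)))))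
    have hnorm : Normed p M f := by
      intro v hv
      have h1 := normed_of_mem hM (hξ L h hs) (Subgroup.inclusion hJL v) fun hd => ?_
      · rw [hf]; simpa using h1
      · have h2 : (Subgroup.centralizer ({Subgroup.inclusion hJL v} : Set L)).index * L.index ∣
            (Subgroup.centralizer ({v} : Set (N ⊔ Subgroup.zpowers g : Subgroup G))).index *
              (N ⊔ Subgroup.zpowers g).index := by
          rw [← Subgroup.index_map_subtype, ← Subgroup.index_map_subtype]
          refine Subgroup.index_dvd_of_le ?_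
          rintro _ ⟨c, hc, rfl⟩
          refine ⟨Subgroup.inclusion hJL c, ?_, rfl⟩
          rw [SetLike.mem_coe, Subgroup.mem_centralizer_singleton_iff] at hc ⊢
          simp only [← map_mul, hc]
        rcases hM.1.dvd_mul.1 ((hd.trans (dvd_mul_right _ _)).trans h2) with h' | h'
        · exact hv h'
        · exact not_dvd_index_of_le hN le_sup_left h'
    have heq := eq_of_restrict_eq hM (cover_subgroupOf hM hN le_sup_left)
      (ξ (N ⊔ Subgroup.zpowers g) le_sup_left (hJs g)).2 hfi (normed_of_mem hM (hξ _ _ _)) hnorm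
      (hirr _ _ _) (by rw [hres, CharInd.classInner_irr_self (hirr _ _ _)]; exact one_ne_zero)
    have := congrFun heq ⟨g, Subgroup.mem_sup_right (Subgroup.mem_zpowers g)⟩
    rw [hf] at this
    exact this
  have hresN : ∀ n : N, χ₀ n = (θ : N → ℂ) n := fun n => by
    rw [← hind _ le_sup_left (hJs 1) n (Subgroup.mem_sup_left n.2)]
    exact hξθ _ le_sup_left (hJs 1) n
  -- invariance of `θ`
  have hθinv : ∀ (x : G) (n : N), (θ : N → ℂ) ⟨x * n * x⁻¹,
      ‹N.Normal›.conj_mem _ n.2 x⟩ = (θ : N → ℂ) n := by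
    intro x n
    have hc := Char.irr_isClassFunction (ξ (N ⊔ Subgroup.zpowers x) le_sup_left (hJs x)).2
      ⟨n, Subgroup.mem_sup_left n.2⟩ ⟨x, Subgroup.mem_sup_right (Subgroup.mem_zpowers x)⟩
    have e1 := hξθ (N ⊔ Subgroup.zpowers x) le_sup_left (hJs x) n
    have e2 := hξθ (N ⊔ Subgroup.zpowers x) le_sup_left (hJs x)
      ⟨x * n * x⁻¹, ‹N.Normal›.conj_mem _ n.2 x⟩
    exact e2.symm.trans (hc.trans e1)
  have hcl : IsClassFunction G χ₀ := by
    intro g x
    obtain ⟨J, hJ⟩ : ∃ J, J = N ⊔ Subgroup.zpowers g := ⟨_, rfl⟩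
    have hNJ : N ≤ J := hJ ▸ le_sup_left
    have hs : Group.IsSolvable (J.map (QuotientGroup.mk' N)) := hJ ▸ hJs g
    have hgJ : g ∈ J := hJ ▸ Subgroup.mem_sup_right (Subgroup.mem_zpowers g)
    have hJ' : N ⊔ Subgroup.zpowers (x * g * x⁻¹) = J.map (MulAut.conj x).toMonoidHom := by
      rw [hJ, Subgroup.map_sup, MonoidHom.map_zpowers]
      congr 1
      exact (Subgroup.mem_normalizer_iff_map_conj_eq.1 (by rw [Subgroup.normalizer_eq_top_iff.2 ‹N.Normal›]; trivial)).symm
    let e : J ≃* (N ⊔ Subgroup.zpowers (x * g * x⁻¹) : Subgroup G) :=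
      ((MulAut.conj x).subgroupMap J).trans (MulEquiv.subgroupCongr hJ'.symm)
    have he : ∀ y : J, ((e y : (N ⊔ Subgroup.zpowers (x * g * x⁻¹) : Subgroup G)) : G)
        = x * y * x⁻¹ := fun y => rfl
    obtain ⟨φ, hφ⟩ : ∃ φ, φ = irrComp e (ξ _ le_sup_left (hJs (x * g * x⁻¹))) := ⟨_, rfl⟩
    have hφb : φ ∈ principalBlock M J := hφ ▸ mem_principal_comp e (hξ _ _ _)
    have hres : (fun n : N.subgroupOf J => (φ : J → ℂ) n) =
        fun n : N.subgroupOf J => (ξ J hNJ hs : J → ℂ) n := by
      funext n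
      rw [hφ, coe_irrComp, Function.comp_apply]
      have e1 := hξθ _ le_sup_left (hJs (x * g * x⁻¹)) ⟨x * ((n : J) : G) * x⁻¹,
        ‹N.Normal›.conj_mem _ n.2 x⟩
      have e2 := hξθ J hNJ hs ⟨_, n.2⟩
      have e1' := e1.trans ((hθinv x ⟨_, n.2⟩).trans e2.symm)
      exact (congrArg _ (Subtype.ext (he (n : J)))).trans e1'
    have heq := eq_of_restrict_eq hM (cover_subgroupOf hM hN hNJ) (ξ J hNJ hs).2 φ.2
      (normed_of_mem hM (hξ _ _ _)) (normed_of_mem hM hφb) (hirr _ _ _)
      (by rw [hres, CharInd.classInner_irr_self (hirr _ _ _)]; exact one_ne_zero)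
    have := congrFun heq ⟨g, hgJ⟩
    rw [hφ, coe_irrComp, Function.comp_apply, hind J hNJ hs g hgJ] at this
    rw [← this, ← hind _ le_sup_left (hJs (x * g * x⁻¹)) (x * g * x⁻¹)
      (Subgroup.mem_sup_right (Subgroup.mem_zpowers _))]
    exact congrArg _ (Subtype.ext (he ⟨g, hgJ⟩).symm)
  have hgen : IsGeneralizedCharacter G χ₀ := by
    let S : AddSubgroup (G → ℂ) :=
      { carrier := {f | IsGeneralizedCharacter G f}
        add_mem' := fun ha hb => CharInd.genChar_add ha hb
        zero_mem' := CharInd.genChar_zero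
        neg_mem' := fun ha => CharInd.genChar_neg ha }
    refine CharDeep.mem_of_forall_elementary hcl S fun q E η hq hE hη => ?_
    apply CharInd.genChar_indFun
    refine CharInd.genChar_mul (CharInd.genChar_of_isCharacter hη) ?_
    have hEs : Group.IsSolvable E := by
      haveI : Fact q.Prime := ⟨hq⟩
      obtain ⟨z, hz, -, k, hk⟩ := hE
      haveI : (Subgroup.zpowers z).Normal := ⟨fun y hy c => by
        rw [(Subgroup.mem_center_iff.1 (Subgroup.zpowers_le.2 hz hy) c), mul_inv_cancel_right]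
        exact hy⟩
      haveI : Group.IsSolvable (E ⧸ Subgroup.zpowers z) := by
        haveI := (IsPGroup.of_card (p := q) (n := k) hk).isNilpotent
        infer_instance
      exact Group.isSolvable_of_ker_le_range (Subgroup.zpowers z).subtype
        (QuotientGroup.mk' (Subgroup.zpowers z)) (by rw [QuotientGroup.ker_mk', Subgroup.range_subtype])
    haveI := hEs
    have hs : Group.IsSolvable ((N ⊔ E).map (QuotientGroup.mk' N)) := by
      rw [Subgroup.map_sup, QuotientGroup.map_mk'_self, bot_sup_eq]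
      exact Group.isSolvable_of_surjective ((QuotientGroup.mk' N).subgroupMap_surjective E)
    have e : (fun y : E => χ₀ y) =
        (ξ (N ⊔ E) le_sup_left hs : (N ⊔ E : Subgroup G) → ℂ) ∘
          (Subgroup.inclusion le_sup_right : E →* (N ⊔ E : Subgroup G)) := by
      funext y
      exact (hind _ le_sup_left hs y (Subgroup.mem_sup_right y.2)).symm
    rw [e]
    exact CharInd.genChar_of_isCharacter (Char.isCharacter_comp
      (Char.isCharacter_of_irr (ξ _ le_sup_left hs).2) _)
  have hnorm : classInner χ₀ χ₀ = 1 := by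
    haveI := Fintype.ofFinite (G ⧸ N)
    have hq : ∀ q : G ⧸ N, ∑ n : N, χ₀ ((n : G) * q.out) * conj (χ₀ ((n : G) * q.out))
        = Nat.card N := by
      intro q
      obtain ⟨J, hJ⟩ : ∃ J, J = N ⊔ Subgroup.zpowers q.out := ⟨_, rfl⟩
      have hNJ : N ≤ J := hJ ▸ le_sup_left
      have hs : Group.IsSolvable (J.map (QuotientGroup.mk' N)) := hJ ▸ hJs q.out
      have hgJ : q.out ∈ J := hJ ▸ Subgroup.mem_sup_right (Subgroup.mem_zpowers _)
      haveI := Fintype.ofFinite J
      haveI := Fintype.ofFinite (N.subgroupOf J)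
      have h1 := congrFun (CharExt.avgN_normSq_eq_one (N.subgroupOf J) _ (ξ J hNJ hs).2
        (hirr J hNJ hs)) ⟨q.out, hgJ⟩
      rw [CharExt.avgN, inv_mul_eq_iff_eq_mul₀ (Nat.cast_ne_zero.2 Nat.card_pos.ne'), mul_one,
        Nat.card_congr (Subgroup.subgroupOfEquivOfLe hNJ).toEquiv] at h1
      rw [← h1]
      refine (Fintype.sum_equiv (Subgroup.subgroupOfEquivOfLe hNJ).toEquiv _ _ fun n => ?_).symm
      have hv : (ξ J hNJ hs : J → ℂ) ((n : J) * ⟨q.out, hgJ⟩) = χ₀ (((n : J) : G) * q.out) := by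
        rw [← hind J hNJ hs (((n : J) : G) * q.out) (J.mul_mem (n : J).2 hgJ)]
        rfl
      simp only [hv]
      rfl
    rw [classInner, sum_eq_sum_quotient N, Finset.sum_congr rfl fun q _ => hq q, Finset.sum_const,
      Finset.card_univ, nsmul_eq_mul, ← Nat.card_eq_fintype_card, ← Nat.cast_mul,
      show Nat.card (G ⧸ N) * Nat.card N = Nat.card G from N.card_eq_card_quotient_mul_card_subgroup.symm]
    exact inv_mul_cancel₀ (Nat.cast_ne_zero.2 Nat.card_pos.ne')
  have hpos : 0 < (χ₀ 1).re := by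
    rw [show χ₀ 1 = (θ : N → ℂ) 1 from hresN 1]
    obtain ⟨d, hd, hd'⟩ := Char.irr_one_pos θ.2
    rw [hd', Complex.natCast_re]
    exact_mod_cast hd
  have h0irr := CharInd.genChar_norm_one_pos hgen hnorm hpos
  have h0res : (fun n : N => χ₀ n) = θ := funext hresN
  have h0n : Normed p M χ₀ := by
    intro v hv
    have hNJ : N ≤ N ⊔ Subgroup.zpowers v := le_sup_left
    have h1 := normed_of_mem hM (hξ _ hNJ (hJs v))
      ⟨v, Subgroup.mem_sup_right (Subgroup.mem_zpowers v)⟩ fun hd => ?_
    · rw [hind _ hNJ (hJs v) v] at h1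
      rwa [show ((ξ _ hNJ (hJs v) : (N ⊔ Subgroup.zpowers v : Subgroup G) → ℂ) 1) = χ₀ 1 from
        hind _ hNJ (hJs v) 1 (one_mem _)] at h1
    · have hK : ¬ p ∣ (Subgroup.centralizer ({v} : Set G) ⊓ N).index := by
        intro hd'
        rw [← Subgroup.relIndex_mul_index (inf_le_left :
          Subgroup.centralizer ({v} : Set G) ⊓ N ≤ _), Subgroup.inf_relIndex_left] at hd'
        rcases hM.1.dvd_mul.1 hd' with h' | h'
        · exact hN.1 (h'.trans (Subgroup.relIndex_dvd_index_of_normal N _))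
        · exact hv h'
      refine hK (hd.trans ?_)
      rw [← Subgroup.relIndex_mul_index (inf_le_right.trans hNJ :
        Subgroup.centralizer ({v} : Set G) ⊓ N ≤ _)]
      refine dvd_mul_of_dvd_left (Subgroup.index_dvd_of_le ?_) _
      intro c hc
      rw [Subgroup.mem_centralizer_singleton_iff]
      exact Subtype.ext (Subgroup.mem_centralizer_singleton_iff.1 hc.1)
  obtain ⟨χ, hχ, hinner⟩ := exists_over hM N hθ
  have heq := eq_of_restrict_eq hM hN h0irr χ.2 h0n (normed_of_mem hM hχ)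
    (h0res ▸ θ.2) (by rw [h0res]; exact hinner)
  exact ⟨χ, hχ, heq ▸ h0res⟩

/-- The bijection. -/
theorem bijection (hM : IsPModular p M) (N : Subgroup G) [N.Normal] [Fintype N] (hN : Cover p N) :
    (∀ χ ∈ principalBlock M G, ∃ θ ∈ principalBlock M N,
      (fun n : N => (χ : G → ℂ) n) = θ) ∧
    ∀ θ ∈ principalBlock M N, ∃! χ : IrrCharacter G, χ ∈ principalBlock M G ∧
      (fun n : N => (χ : G → ℂ) n) = θ := by
  classical
  refine ⟨fun χ hχ => ?_, fun θ hθ => ?_⟩
  · obtain ⟨θ, k, hk, hk'⟩ := Char.exists_irr_constituent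
      (CharInd.isCharacter_res N (Char.isCharacter_of_irr χ.2)) (fun h => by
        have h1 := congrFun h 1
        exact Char.irr_one_ne_zero χ.2 h1)
    have hne : classInner (fun n : N => (χ : G → ℂ) n) (θ : N → ℂ) ≠ 0 := by
      rw [hk']; exact Nat.cast_ne_zero.2 hk.ne'
    have hθ := constituent_mem hM N hχ hne
    obtain ⟨χ', hχ', hres⟩ := exists_ext hM N hN hθ
    have := eq_of_restrict_eq hM hN χ'.2 χ.2 (normed_of_mem hM hχ') (normed_of_mem hM hχ)
      (hres ▸ θ.2) (by rw [hres]; exact hne)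
    exact ⟨θ, hθ, by rw [this]; exact hres⟩
  · obtain ⟨χ, hχ, hres⟩ := exists_ext hM N hN hθ
    refine ⟨χ, ⟨hχ, hres⟩, fun χ' hχ' => Subtype.ext ?_⟩
    exact eq_of_restrict_eq hM hN χ.2 χ'.2 (normed_of_mem hM hχ) (normed_of_mem hM hχ'.1)
      (hres ▸ θ.2) (by rw [hres, hχ'.2, CharInd.classInner_irr_self θ.2]; exact one_ne_zero)

end Cfsg.Agent.Brauer.PrincipalRes
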